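import Groth.Agent.S0816
import Groth.Agent.S0019
import Groth.Agent.S2313
import Groth.Agent.CohqA.SerreGen
import Groth.Agent.CohqA.IdealMod
import Groth.Agent.CurvesB.UnitCoh
import Groth.Agent.Fdesc.GlueAff
import Groth.Agent.Pic13.H969.StalkFree
import Groth.Agent.Divis.IdealComap
import Groth.Agent.Divis.StalkMod
import Groth.Agent.Dcoh.ResFree
import Groth.Agent.PerfA.IdealModule
import Groth.Agent.CycB.CohProp
import Groth.Agent.Fga.TwistGr
import Groth.Agent.Sga67.CohBasic

/-!
# Direct images of coherent modules generically isomorphic to a given module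

For `f : X ⟶ Y` finite with `Y` integral, and `F` coherent on `Y`, there are a coherent `G` on `X` and a morphism
`f_* G ⟶ F^m` which is an isomorphism near the generic point, `m` the generic rank of `f_* O_X`.
-/

set_option autoImplicit false
universe u
open CategoryTheory CategoryTheory.Limits AlgebraicGeometry TopologicalSpace Opposite

namespace K428.GenPush

open Groth.Agent

variable {X Y : Scheme.{u}}

/-! ### The module of an ideal off its support -/

theorem preimage_eq_bot (J : X.IdealSheafData) (T : X.Opens) (h : Disjoint (T : Set X) (J.support : Set X)) :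
    J.subschemeι ⁻¹ᵁ T = ⊥ := by
  ext x
  constructor
  · intro hx
    have h1 : J.subschemeι x ∈ (J.support : Set X) := by
      rw [← J.range_subschemeι]
      exact ⟨x, rfl⟩
    exact (Set.disjoint_left.1 h hx h1).elim
  · intro hx
    exact hx.elim

theorem idealModι_bijective (J : X.IdealSheafData) (T : X.Opens) (h : Disjoint (T : Set X) (J.support : Set X)) :
    Function.Bijective ((ClSub.idealModι J).app T) := by
  refine ⟨PerfA.IdealModule.ι_injective J T, fun t => ?_⟩
  refine (PerfA.IdealModule.exact_app J T t).1 ?_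
  have h1 : Subsingleton Γ(J.subscheme, J.subschemeι ⁻¹ᵁ T) := by
    rw [preimage_eq_bot J T h]
    infer_instance
  exact h1.elim _ _

/-! ### Sections of the direct image of the extended ideal -/

section Killed

variable (f : X ⟶ Y)

/-- Multiplication by elements of the extended ideal kills a quotient killed by `K`. -/
theorem killed_span {C : Y.Modules} (c : (Scheme.Modules.pushforward f).obj (Coh.structureModule X) ⟶ C)
    (U : Y.Opens) (I : Ideal Γ(Y, U)) (hI : ∀ a ∈ I, ∀ m : Γ(C, U), a • m = 0)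
    (t : Γ(X, f ⁻¹ᵁ U)) (ht : t ∈ I.map (f.app U).hom) :
    ∀ b : Γ(X, f ⁻¹ᵁ U), c.app U (show Γ((Scheme.Modules.pushforward f).obj (Coh.structureModule X), U) from b * t) = 0 := by
  rw [Ideal.map] at ht
  induction ht using Submodule.span_induction with
  | mem x hx =>
    obtain ⟨a, ha, rfl⟩ := hx
    intro b
    have h1 : (show Γ((Scheme.Modules.pushforward f).obj (Coh.structureModule X), U) from b * (f.app U).hom a) =
        a • (show Γ((Scheme.Modules.pushforward f).obj (Coh.structureModule X), U) from b) :=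
      mul_comm b ((f.app U).hom a)
    rw [h1, Scheme.Modules.Hom.app_smul]
    exact hI a ha _
  | zero =>
    intro b
    rw [mul_zero]
    exact map_zero _
  | add x y _ _ hx hy =>
    intro b
    rw [mul_add]
    exact (map_add (c.app U).hom _ _).trans (by
      have := hx b; have := hy b
      rw [show (c.app U).hom _ = 0 from hx b, show (c.app U).hom _ = 0 from hy b, add_zero])
  | smul r x _ hx =>
    intro b
    have := hx (b * r)
    rwa [mul_assoc] at this

theorem comp_eq_zero [IsAffineHom f] (K : Y.IdealSheafData) {C : Y.Modules}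
    (hC : ∀ (U : Y.affineOpens) (a : Γ(Y, U.1)), a ∈ K.ideal U → ∀ m : Γ(C, U.1), a • m = 0)
    (c : (Scheme.Modules.pushforward f).obj (Coh.structureModule X) ⟶ C) :
    (Scheme.Modules.pushforward f).map (ClSub.idealModι (K.comap f)) ≫ c = 0 := by
  refine Groth.Agent.Fdesc.GlueAff.hom_ext_affine fun U s => ?_
  have hA : IsAffineOpen (f ⁻¹ᵁ U.1) := U.2.preimage f
  let s' : Γ(ClSub.idealMod (K.comap f), f ⁻¹ᵁ U.1) := s
  have h1 := PerfA.IdealModule.val_mem (K.comap f) ⟨f ⁻¹ᵁ U.1, hA⟩ s'
  rw [Divis.IdealComap.ideal_comap K f U ⟨f ⁻¹ᵁ U.1, hA⟩ le_rfl, ← Scheme.Hom.app_eq_appLE] at h1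
  have h2 := killed_span f c U.1 (K.ideal U) (hC U) _ h1 1
  rw [one_mul] at h2
  exact h2

end Killed

/-! ### Swapping sums -/

section Swap

variable {C : Type*} [Category C] [Preadditive C] [HasFiniteBiproducts C]

/-- `⨁_r ⨁_m P ≅ ⨁_m ⨁_r P`. -/
noncomputable def swapSum (r m : ℕ) (P : C) :
    (⨁ fun _ : Fin r => ⨁ fun _ : Fin m => P) ≅ (⨁ fun _ : Fin m => ⨁ fun _ : Fin r => P) where
  hom := biproduct.lift fun j => biproduct.map fun _ => biproduct.π _ j
  inv := biproduct.lift fun j => biproduct.map fun _ => biproduct.π _ j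
  hom_inv_id := by
    ext i j
    simp
  inv_hom_id := by
    ext i j
    simp

end Swap

/-! ### Main construction -/

/-- An additive functor inverting all components of a diagonal map inverts it. -/
theorem isIso_map_biproduct {C D : Type*} [Category C] [Category D] [Preadditive C] [Preadditive D]
    [HasFiniteBiproducts C] (R : C ⥤ D) [R.Additive] {r : ℕ} {M N : Fin r → C} (p : ∀ i, M i ⟶ N i)
    (h : ∀ i, IsIso (R.map (p i))) : IsIso (R.map (biproduct.map p)) := by
  refine ⟨⟨∑ i, R.map (biproduct.π N i) ≫ inv (R.map (p i)) ≫ R.map (biproduct.ι M i), ?_, ?_⟩⟩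
  · rw [Preadditive.comp_sum, ← R.map_id, ← biproduct.total, Functor.map_sum]
    refine Finset.sum_congr rfl fun i _ => ?_
    rw [← Category.assoc, ← R.map_comp, biproduct.map_π, R.map_comp, Category.assoc,
      IsIso.hom_inv_id_assoc, ← R.map_comp]
  · rw [Preadditive.sum_comp, ← R.map_id, ← biproduct.total, Functor.map_sum]
    refine Finset.sum_congr rfl fun i _ => ?_
    rw [Category.assoc, Category.assoc, ← R.map_comp (biproduct.ι M i), biproduct.ι_map, R.map_comp,
      IsIso.inv_hom_id_assoc, ← R.map_comp]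

theorem support_pow_le (I : X.IdealSheafData) (n : ℕ) : ((I ^ n).support : Set X) ⊆ I.support := by
  rcases Nat.eq_zero_or_pos n with rfl | hn
  · rw [pow_zero]
    intro x hx
    rw [Scheme.IdealSheafData.one_eq_top, Scheme.IdealSheafData.support_top] at hx
    exact absurd hx (by simp)
  · rw [Scheme.IdealSheafData.support_pow _ _ hn.ne']

theorem app_bijective_of_restrict {M N : X.Modules} (φ : M ⟶ N) (V : X.Opens)
    (h : IsIso ((Scheme.Modules.restrictFunctor V.ι).map φ)) (W : X.Opens) (hW : W ≤ V) :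
    Function.Bijective (φ.app W) := by
  have h1 : IsIso (((Scheme.Modules.restrictFunctor V.ι).map φ).app (V.ι ⁻¹ᵁ W)) := inferInstance
  have h2 : IsIso (φ.app (V.ι ''ᵁ (V.ι ⁻¹ᵁ W))) := h1
  have h3 : V.ι ''ᵁ (V.ι ⁻¹ᵁ W) = W := by
    rw [Scheme.Hom.image_preimage_eq_opensRange_inf, Scheme.Opens.opensRange_ι]
    exact inf_eq_right.2 hW
  rw [h3] at h2
  exact (ConcreteCategory.isIso_iff_bijective _).1 h2

theorem isCoh_biproduct [IsLocallyNoetherian X] {r : ℕ} (M : X.Modules) (hM : Coh.IsCoh M) :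
    haveI : HasFiniteBiproducts X.Modules := Abelian.hasFiniteBiproducts
    Coh.IsCoh (⨁ fun _ : Fin r => M) := by
  haveI : HasFiniteBiproducts X.Modules := Abelian.hasFiniteBiproducts
  exact Sga67.CohBasic.isCoh_of_iso (biproduct.isoCoproduct _).symm
    (CycB.CohProp.isCoh_finite_coproduct _ fun _ => hM)

theorem isCoh_idealMod [IsLocallyNoetherian X] (D : X.IdealSheafData) :
    Coh.IsCoh (ClSub.idealMod D) := by
  have := CohqA.IdealMod.mono_idealModι D
  exact CycB.CohProp.isCoh_of_mono (ClSub.idealModι D) (CohqA.IdealMod.isQCoh_idealMod D)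
    (CurvesB.UnitCoh.isCoh_structureModule X)

theorem main (f : X ⟶ Y) [IsFinite f] [IsNoetherian Y] [IsLocallyNoetherian X] (V : Y.Opens) (r m : ℕ)
    (F : Y.Modules) (hF : Coh.IsCoh F)
    (hα : Nonempty (((Scheme.Modules.pushforward f).obj (Coh.structureModule X)).restrict V.ι ≅ FlatMod.freeMod V m))
    (hβ : Nonempty (F.restrict V.ι ≅ FlatMod.freeMod V r)) :
    ∃ (G : X.Modules) (u : (Scheme.Modules.pushforward f).obj G ⟶ ∐ fun _ : Fin m => F), Coh.IsCoh G ∧
      IsIso ((Scheme.Modules.restrictFunctor V.ι).map u) := by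
  obtain ⟨α⟩ := hα
  obtain ⟨β⟩ := hβ
  haveI hX : HasFiniteBiproducts X.Modules := Abelian.hasFiniteBiproducts
  haveI hY : HasFiniteBiproducts Y.Modules := Abelian.hasFiniteBiproducts
  haveI hVB : HasFiniteBiproducts (V : Scheme.{u}).Modules := Abelian.hasFiniteBiproducts
  let N : Y.Modules := (Scheme.Modules.pushforward f).obj (Coh.structureModule X)
  have hN : Coh.IsCoh N := S0019.result f _ (CurvesB.UnitCoh.isCoh_structureModule X)
  let A : Y.Modules := ⨁ fun _ : Fin r => N
  let B : Y.Modules := ⨁ fun _ : Fin m => F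
  have hA : Coh.IsCoh A := isCoh_biproduct N hN
  have hB : Coh.IsCoh B := isCoh_biproduct F hF
  let R : Y.Modules ⥤ (V : Scheme.{u}).Modules := Scheme.Modules.restrictFunctor V.ι
  let α' : R.obj N ≅ ⨁ fun _ : Fin m => Coh.structureModule (V : Scheme.{u}) :=
    α ≪≫ (biproduct.isoCoproduct _).symm
  let β' : R.obj F ≅ ⨁ fun _ : Fin r => Coh.structureModule (V : Scheme.{u}) :=
    β ≪≫ (biproduct.isoCoproduct _).symm
  let φ : R.obj A ≅ R.obj B := R.mapBiproduct _ ≪≫ biproduct.mapIso (fun _ => α') ≪≫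
    swapSum r m (Coh.structureModule (V : Scheme.{u})) ≪≫ biproduct.mapIso (fun _ => β'.symm) ≪≫
    (R.mapBiproduct _).symm
  obtain ⟨A', ι, φ', hι, hA', hιiso, hφ'⟩ := S0816.result Y A B hA hB V φ.hom
  have hC : Coh.IsCoh (cokernel ι) := Sga67.CohBasic.isCoh_cokernel ι hA'.1 hA
  let Z : Closeds Y := ⟨(V : Set Y)ᶜ, V.isOpen.isClosed_compl⟩
  let J₀ : Y.IdealSheafData := Scheme.IdealSheafData.vanishingIdeal Z
  have hJ₀ : (J₀.support : Set Y) = (V : Set Y)ᶜ := by
    rw [Scheme.IdealSheafData.coe_support_vanishingIdeal]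
    rfl
  have hsupp : CohB1.support (cokernel ι) ⊆ (J₀.support : Set Y) := by
    rw [hJ₀]
    intro x hx hxV
    exact CohqA.SerreGen.not_mem_support_cokernel_of_surjective ι x V hxV
      (fun W hW => (app_bijective_of_restrict ι V hιiso W hW).2) hx
  obtain ⟨n, hn⟩ := S2313.result Y (cokernel ι) hC J₀ hsupp
  let K : Y.IdealSheafData := J₀ ^ n
  have hK : ∀ (U : Y.affineOpens) (a : Γ(Y, U.1)), a ∈ K.ideal U → ∀ s : Γ(cokernel ι, U.1), a • s = 0 :=
    fun U a ha s => hn U a ha s
  let J : X.IdealSheafData := K.comap f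
  let P : X.Modules ⥤ Y.Modules := Scheme.Modules.pushforward f
  let G : X.Modules := ⨁ fun _ : Fin r => ClSub.idealMod J
  have hG : Coh.IsCoh G := isCoh_biproduct _ (isCoh_idealMod J)
  let w : P.obj (ClSub.idealMod J) ⟶ N := P.map (ClSub.idealModι J)
  let W : P.obj G ⟶ A := (P.mapBiproduct _).hom ≫ biproduct.map (fun _ => w)
  have hW0 : W ≫ cokernel.π ι = 0 := by
    have h1 : biproduct.map (fun _ : Fin r => w) ≫ cokernel.π ι = 0 := by
      refine biproduct.hom_ext' _ _ fun i => ?_
      rw [comp_zero, ← Category.assoc, biproduct.ι_map, Category.assoc]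
      exact comp_eq_zero f K hK (biproduct.ι (fun _ : Fin r => N) i ≫ cokernel.π ι)
    exact (Category.assoc _ _ _).trans ((congrArg (fun z => (P.mapBiproduct _).hom ≫ z) h1).trans comp_zero)
  let S := ShortComplex.mk ι (cokernel.π ι) (cokernel.condition ι)
  have hS : S.Exact := ShortComplex.exact_cokernel ι
  haveI : Mono S.f := hι
  let u₁ : P.obj G ⟶ A' := hS.lift W hW0
  have hu₁ : u₁ ≫ ι = W := hS.lift_f W hW0
  have hwiso : IsIso (R.map w) := by
    refine Fga.TwistGr.isIso_restrict_of_app w V fun T hT => ?_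
    refine idealModι_bijective J (f ⁻¹ᵁ T) ?_
    rw [Set.disjoint_left]
    intro x hx hxJ
    have h2 : x ∈ ((K.comap f).support : Set X) := hxJ
    rw [Scheme.IdealSheafData.support_comap] at h2
    have h3 : f x ∈ (J₀.support : Set Y) := support_pow_le J₀ n h2
    rw [hJ₀] at h3
    exact h3 (hT hx)
  have hWiso : IsIso (R.map W) := by
    have h1 := isIso_map_biproduct R (fun _ : Fin r => w) fun _ => hwiso
    have h2 : IsIso (R.map (P.mapBiproduct (fun _ : Fin r => ClSub.idealMod J)).hom) := inferInstance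
    have h3 : R.map W = R.map (P.mapBiproduct (fun _ : Fin r => ClSub.idealMod J)).hom ≫
      R.map (biproduct.map (fun _ : Fin r => w)) := R.map_comp _ _
    rw [h3]
    exact IsIso.comp_isIso' h2 h1
  have hu₁iso : IsIso (R.map u₁) := by
    have h1 : R.map u₁ ≫ R.map ι = R.map W := by rw [← R.map_comp, hu₁]
    haveI : IsIso (R.map ι) := hιiso
    haveI : IsIso (R.map u₁ ≫ R.map ι) := by rw [h1]; exact hWiso
    exact IsIso.of_isIso_comp_right (R.map u₁) (R.map ι)
  have hφ'iso : IsIso (R.map φ') := by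
    haveI : IsIso (R.map ι) := hιiso
    have h1 : R.map φ' = R.map ι ≫ φ.hom := hφ'
    rw [h1]
    infer_instance
  refine ⟨G, u₁ ≫ φ' ≫ (biproduct.isoCoproduct _).hom, hG, ?_⟩
  change IsIso (R.map (u₁ ≫ φ' ≫ (biproduct.isoCoproduct _).hom))
  rw [R.map_comp, R.map_comp]
  infer_instance

/-- **Direct images of coherent modules are generically everything.** -/
theorem exists_push [IsIntegral Y] (f : X ⟶ Y) [IsFinite f] [IsNoetherian Y] [IsLocallyNoetherian X]
    (F : Y.Modules) (hF : Coh.IsCoh F) (m : ℕ) (hm : m = Module.finrank (Y.functionField)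
      (((Scheme.Modules.pushforward f).obj (Coh.structureModule X)).presheaf.stalk (genericPoint Y))) :
    ∃ (G : X.Modules) (u : (Scheme.Modules.pushforward f).obj G ⟶ ∐ fun _ : Fin m => F), Coh.IsCoh G ∧
      ∃ V : Y.Opens, genericPoint Y ∈ V ∧ IsIso ((Scheme.Modules.restrictFunctor V.ι).map u) := by
  have hN : Coh.IsCoh ((Scheme.Modules.pushforward f).obj (Coh.structureModule X)) :=
    S0019.result f _ (CurvesB.UnitCoh.isCoh_structureModule X)
  have hfree : ∀ M : Y.Modules, Module.Free (Y.presheaf.stalk (genericPoint Y))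
      (M.presheaf.stalk (genericPoint Y)) := by
    intro M
    let _ : Field (Y.presheaf.stalk (genericPoint Y)) := inferInstanceAs (Field Y.functionField)
    exact Module.Free.of_divisionRing _ _
  obtain ⟨V₁, m₁, hV₁, e₁⟩ := Divis.StalkMod.exists_free_nhd hN (genericPoint Y) (hfree _)
  obtain ⟨V₂, r, hV₂, e₂⟩ := Divis.StalkMod.exists_free_nhd hF (genericPoint Y) (hfree _)
  have hm₁ : m₁ = m := by
    obtain ⟨b⟩ := Pic13.H969.StalkFree.nonempty_basis_stalk e₁.some (genericPoint Y) hV₁
    rw [hm]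
    have h := Module.finrank_eq_card_basis b
    rw [Fintype.card_fin] at h
    exact h.symm
  subst hm₁
  have e₁' := Dcoh.ResFree.free_restrict (Y.homOfLE (inf_le_left : V₁ ⊓ V₂ ≤ V₁)) V₁.ι (V₁ ⊓ V₂).ι (by simp) e₁
  have e₂' := Dcoh.ResFree.free_restrict (Y.homOfLE (inf_le_right : V₁ ⊓ V₂ ≤ V₂)) V₂.ι (V₁ ⊓ V₂).ι (by simp) e₂
  obtain ⟨G, u, hG, hu⟩ := main f (V₁ ⊓ V₂) r m₁ F hF e₁' e₂'
  exact ⟨G, u, hG, V₁ ⊓ V₂, ⟨hV₁, hV₂⟩, hu⟩

end K428.GenPush
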