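import Groth.Agent.Gaga.H883.Serre
import Groth.Agent.Fga.TwistCoh
import Groth.Agent.CohqB.SuppVanish
import Groth.Agent.S0020
import Groth.Agent.S1642

/-!
# Castelnuovo–Mumford regularity and supports of small dimension

* `subsingleton_of_support`: `H^i(F(m)) = 0` for `i > dim Supp F`, `F` coherent on `P^n_k`.
* `left`, `mid`, `right`: vanishing of cohomology in short exact sequences.
* `imgIso`: `Abelian.image f` from an epi-mono factorization.
* `sesKer`, `sesHom`: `0 → ker f → A → im f → 0` and `0 → im (A → Z) → Z → H → 0`.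
* `regular_image`: the images of a termwise regular complex with homology of dimension at most one.
-/

set_option autoImplicit false

universe u

open CategoryTheory CategoryTheory.Limits AlgebraicGeometry TopologicalSpace

namespace K428.Reg

open Groth.Agent

section LES

variable {X : Scheme.{u}} {S : ShortComplex X.Modules}

theorem mid (hS : S.ShortExact) (q : ℕ) (h1 : Subsingleton (Coh.HH X S.X₁ q))
    (h3 : Subsingleton (Coh.HH X S.X₃ q)) : Subsingleton (Coh.HH X S.X₂ q) := by
  have key : ∀ x : Coh.HH X S.X₂ q, x = 0 := fun x => by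
    obtain ⟨y, rfl⟩ := (VarietyA.EulerLES.exact₂ S hS q x).1 (Subsingleton.elim _ _)
    rw [Subsingleton.elim y 0, map_zero]
  exact ⟨fun a b => (key a).trans (key b).symm⟩

theorem left (hS : S.ShortExact) (q : ℕ) (h2 : Subsingleton (Coh.HH X S.X₂ (q + 1)))
    (h3 : Subsingleton (Coh.HH X S.X₃ q)) : Subsingleton (Coh.HH X S.X₁ (q + 1)) := by
  have key : ∀ x : Coh.HH X S.X₁ (q + 1), x = 0 := fun x => by
    obtain ⟨y, rfl⟩ := (VarietyA.EulerLES.exact₁ S hS q (q + 1) rfl x).1 (Subsingleton.elim _ _)
    rw [Subsingleton.elim y 0, map_zero]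
  exact ⟨fun a b => (key a).trans (key b).symm⟩

theorem right (hS : S.ShortExact) (q : ℕ) (h2 : Subsingleton (Coh.HH X S.X₂ q))
    (h1 : Subsingleton (Coh.HH X S.X₁ (q + 1))) : Subsingleton (Coh.HH X S.X₃ q) :=
  Gaga.H883.Serre.subsingleton_right hS q h2 h1

end LES

section Proj

variable {n : ℕ} {k : Type u} [Field k]

/-- `H^i(F(m)) = 0` for `i` above the dimension of the support of the coherent module `F`. -/
theorem subsingleton_of_support {F : (CohB1.ProjSpace n k).Modules} (hF : Coh.IsCoh F) (d : ℕ)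
    (hd : topologicalKrullDim (CohB1.support F) ≤ (d : ℕ)) (m : ℤ) (p : ℕ) (hp : d < p) :
    Subsingleton (Coh.HH (CohB1.ProjSpace n k) (CohB1.tensorMod F (Twist.twistProjSpace n k m)) p) := by
  have := Gaga.H883.Serre.isNoetherian_projSpace n k
  refine CohqB.SuppVanish.subsingleton_H_of_support (Y := (CohB1.ProjSpace n k : TopCat.{u})) (CohB1.support F)
    (Groth.Agent.S0020.result _ F hF.2) d hd (Coh.toAb (CohB1.tensorMod F (Twist.twistProjSpace n k m)))
    (fun y hy => ?_) p hp
  exact not_not.mp fun h => hy (Fga.TwistCoh.support_tensor_subset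
    (Gaga.H883.Serre.isInvertible_O n k m) h)

theorem HH_of_isZero {X : Scheme.{u}} {M : X.Modules} (h : IsZero M) (q : ℕ) : Subsingleton (Coh.HH X M q) := by
  have h1 : VarietyA.EulerLES.mapΓ (𝟙 M) q = VarietyA.EulerLES.mapΓ (0 : M ⟶ M) q := by
    rw [h.eq_of_src (𝟙 M) 0]
  rw [VarietyA.EulerLES.mapΓ_id, VarietyA.EulerLES.mapΓ_zero] at h1
  exact ⟨fun a b => (LinearMap.congr_fun h1 a).trans (LinearMap.congr_fun h1 b).symm⟩

end Proj

section Ab

variable {C : Type*} [Category C] [Abelian C]

/-- An epi-mono factorization computes the image. -/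
noncomputable def imgIso {A E I : C} {f : A ⟶ E} (e : A ⟶ I) (m : I ⟶ E) (w : e ≫ m = f) [Epi e] [Mono m] :
    Abelian.image f ≅ I :=
  haveI : StrongEpi e := strongEpi_of_epi e
  Abelian.imageIsoImage f ≪≫ (Limits.image.isoStrongEpiMono e m w).symm

/-- `0 → ker f → A → im f → 0`. -/
noncomputable def sesKer {A E : C} (f : A ⟶ E) : ShortComplex C :=
  ShortComplex.mk (kernel.ι f) (Abelian.factorThruImage f) (by
    rw [← cancel_mono (Abelian.image.ι f), Category.assoc, Abelian.image.fac, kernel.condition, zero_comp])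

theorem sesKer_shortExact {A E : C} (f : A ⟶ E) : (sesKer f).ShortExact := by
  haveI h1 : Mono (sesKer f).f := inferInstanceAs (Mono (kernel.ι f))
  haveI h2 : Epi (sesKer f).g := inferInstanceAs (Epi (Abelian.factorThruImage f))
  refine ShortComplex.ShortExact.mk' ?_ h1 h2
  have h0 := ShortComplex.exact_kernel f
  let φ : sesKer f ⟶ ShortComplex.mk (kernel.ι f) f (kernel.condition f) :=
    { τ₁ := 𝟙 (kernel f), τ₂ := 𝟙 A, τ₃ := Abelian.image.ι f
      comm₁₂ := (Category.id_comp _).trans (Category.comp_id _).symm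
      comm₂₃ := (Category.id_comp _).trans (Abelian.image.fac f).symm }
  haveI : Epi φ.τ₁ := inferInstanceAs (Epi (𝟙 (kernel f)))
  haveI : IsIso φ.τ₂ := inferInstanceAs (IsIso (𝟙 A))
  haveI : Mono φ.τ₃ := inferInstanceAs (Mono (kernel.ι (cokernel.π f)))
  exact (ShortComplex.exact_iff_of_epi_of_isIso_of_mono φ).2 h0

/-- `0 → im f → E → coker f → 0`. -/
noncomputable def sesCok {A E : C} (f : A ⟶ E) : ShortComplex C :=
  ShortComplex.mk (Abelian.image.ι f) (cokernel.π f) (kernel.condition _)

theorem sesCok_shortExact {A E : C} (f : A ⟶ E) : (sesCok f).ShortExact :=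
  ShortComplex.ShortExact.mk' (ShortComplex.exact_kernel _) (inferInstanceAs (Mono (kernel.ι (cokernel.π f))))
    (inferInstanceAs (Epi (cokernel.π f)))

theorem image_ι_comp (S : ShortComplex C) : Abelian.image.ι S.f ≫ S.g = 0 := by
  rw [← cancel_epi (Abelian.factorThruImage S.f), ← Category.assoc, Abelian.image.fac, S.zero, comp_zero]

theorem factorThruImage_liftCycles (S : ShortComplex C) :
    Abelian.factorThruImage S.f ≫ S.liftCycles (Abelian.image.ι S.f) (image_ι_comp S) = S.toCycles := by
  rw [← cancel_mono S.iCycles, Category.assoc, S.liftCycles_i, Abelian.image.fac, S.toCycles_i]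

/-- `0 → im (X₁ → X₂) → Z → H → 0` for a short complex. -/
noncomputable def sesHom (S : ShortComplex C) : ShortComplex C :=
  ShortComplex.mk (S.liftCycles (Abelian.image.ι S.f) (image_ι_comp S)) S.homologyπ (by
    rw [← cancel_epi (Abelian.factorThruImage S.f), ← Category.assoc, factorThruImage_liftCycles,
      S.toCycles_comp_homologyπ, comp_zero])

theorem sesHom_shortExact (S : ShortComplex C) : (sesHom S).ShortExact := by
  haveI hm : Mono (sesHom S).f := by
    have h1 : (sesHom S).f ≫ S.iCycles = Abelian.image.ι S.f := S.liftCycles_i _ _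
    haveI : Mono ((sesHom S).f ≫ S.iCycles) := by
      rw [h1]; exact inferInstanceAs (Mono (kernel.ι (cokernel.π S.f)))
    exact mono_of_mono _ S.iCycles
  haveI he : Epi (sesHom S).g := inferInstanceAs (Epi S.homologyπ)
  refine ShortComplex.ShortExact.mk' ?_ hm he
  have h0 : (ShortComplex.mk S.toCycles S.homologyπ S.toCycles_comp_homologyπ).Exact :=
    ShortComplex.exact_of_g_is_cokernel _ S.homologyIsCokernel
  let φ : ShortComplex.mk S.toCycles S.homologyπ S.toCycles_comp_homologyπ ⟶ sesHom S :=
    { τ₁ := Abelian.factorThruImage S.f, τ₂ := 𝟙 S.cycles, τ₃ := 𝟙 S.homology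
      comm₁₂ := (factorThruImage_liftCycles S).trans (Category.comp_id _).symm
      comm₂₃ := (Category.id_comp _).trans (Category.comp_id _).symm }
  haveI : Epi φ.τ₁ := inferInstanceAs (Epi (Abelian.factorThruImage S.f))
  haveI : IsIso φ.τ₂ := inferInstanceAs (IsIso (𝟙 S.cycles))
  haveI : Mono φ.τ₃ := inferInstanceAs (Mono (𝟙 S.homology))
  exact (ShortComplex.exact_iff_of_epi_of_isIso_of_mono φ).1 h0

end Ab

section Cx

variable {n : ℕ} {k : Type u} [Field k]

open Groth.Agent.Sga67.SerreVB (tw)

theorem subsingleton_congr {F G : (CohB1.ProjSpace n k).Modules} (e : F ≅ G) (m : ℤ) (q : ℕ)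
    (h : Subsingleton (Coh.HH (CohB1.ProjSpace n k) (CohB1.tensorMod F (Twist.twistProjSpace n k m)) q)) :
    Subsingleton (Coh.HH (CohB1.ProjSpace n k) (CohB1.tensorMod G (Twist.twistProjSpace n k m)) q) :=
  Gaga.H883.Serre.HH_congr ((tw n k m).mapIso e) q h

theorem IsMRegular.congr {F G : (CohB1.ProjSpace n k).Modules} (e : F ≅ G) {m : ℤ}
    (h : Curv2.IsMRegular k n F m) : Curv2.IsMRegular k n G m :=
  fun i h1 h2 => subsingleton_congr e _ i (h i h1 h2)

/-- The vanishing also above `n`. -/
theorem vanish {F : (CohB1.ProjSpace n k).Modules} (hF : Coh.IsQCoh F) {m : ℤ}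
    (h : Curv2.IsMRegular k n F m) (i : ℕ) (hi : 1 ≤ i) (a : ℤ) (ha : a = m - i) :
    Subsingleton (Coh.HH (CohB1.ProjSpace n k) (CohB1.tensorMod F (Twist.twistProjSpace n k a)) i) := by
  subst ha
  exact Groth.Agent.S1642.subsingleton_of_isMRegular hF h i hi

/-- The images of a bounded complex `E` with `E_s` `(d+s)`-regular and homology in positive degrees of dimension
at most one. -/
theorem regular_image (E : ChainComplex ((CohB1.ProjSpace n k).Modules) ℕ) (t : ℕ)
    (hbdd : ∀ s : ℕ, t < s → IsZero (E.X s)) (hcoh : ∀ s : ℕ, Coh.IsCoh (E.X s)) (d : ℤ)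
    (hreg : ∀ s : ℕ, Curv2.IsMRegular k n (E.X s) (d + s))
    (hsupp : ∀ i : ℕ, 0 < i → topologicalKrullDim (CohB1.support (E.homology i)) ≤ 1) (j : ℕ) :
    ∀ s : ℕ, t ≤ s + j → Curv2.IsMRegular k n (Abelian.image (E.d (s + 1) s)) (d + s + 1) := by
  have := Gaga.H883.Serre.isNoetherian_projSpace n k
  induction j with
  | zero =>
    intro s hs i _ _
    have h0 : IsZero (Abelian.image (E.d (s + 1) s)) :=
      (hbdd (s + 1) (by omega)).of_epi (Abelian.factorThruImage _)
    exact HH_of_isZero ((tw n k _).map_isZero h0) i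
  | succ j ih =>
    intro s hs i hi hin
    have hB := ih (s + 1) (by omega)
    set m : ℤ := d + s + 1 - i with hm
    refine right (Gaga.H883.Serre.shortExact_tw n k m (sesKer_shortExact (E.d (s + 1) s))) i ?_ ?_
    · exact vanish (hcoh _).1 (hreg (s + 1)) i hi m (by push_cast; ring)
    · let S := E.sc' (s + 2) (s + 1) s
      have hcyc : Subsingleton (Coh.HH (CohB1.ProjSpace n k)
          (CohB1.tensorMod S.cycles (Twist.twistProjSpace n k m)) (i + 1)) := by
        refine mid (Gaga.H883.Serre.shortExact_tw n k m (sesHom_shortExact S)) (i + 1) ?_ ?_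
        · exact vanish (Sga67.CohBasic.isCoh_image _ (hcoh _) (hcoh _).1).1 hB (i + 1) (by omega) m
            (by push_cast; ring)
        · have e : S.homology ≅ E.homology (s + 1) :=
            ShortComplex.homologyMapIso (E.isoSc' (s + 2) (s + 1) s (by simp) (by simp)).symm
          have hcy : Coh.IsCoh S.cycles := Sga67.CohBasic.isCoh_of_iso S.cyclesIsoKernel.symm
            (Sga67.CohBasic.isCoh_kernel (E.d (s + 1) s) (hcoh _) (hcoh _).1)
          have hc : Coh.IsCoh (E.homology (s + 1)) := by
            have e' : cokernel S.toCycles ≅ S.homology :=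
              (colimit.isColimit _).coconePointUniqueUpToIso S.homologyIsCokernel
            exact Sga67.CohBasic.isCoh_of_iso (e' ≪≫ e) (Sga67.CohBasic.isCoh_cokernel S.toCycles (hcoh _).1 hcy)
          exact subsingleton_congr e.symm m (i + 1) (subsingleton_of_support hc 1 (hsupp _ (by omega)) m (i + 1) (by omega))
      exact subsingleton_congr (F := S.cycles) (G := kernel (E.d (s + 1) s)) S.cyclesIsoKernel m (i + 1) hcyc

end Cx

end K428.Reg
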