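import Groth.Agent.Variety.K421.DeltaBranch
import Mathlib.FieldTheory.PurelyInseparable.Basic

/-!
# Local rings of dimension one with minimal delta invariant
-/

set_option autoImplicit false
universe u

open IsLocalRing nonZeroDivisors

namespace K428.Wedge

open K421.NormCl (Cl)

/-- An isomorphism of rings extends to the normalizations. -/
theorem exists_equiv {A B : Type u} [CommRing A] [CommRing B] (e : A ≃+* B) :
    ∃ ε : Cl A ≃+* Cl B, ∀ a, ε (algebraMap A (Cl A) a) = algebraMap B (Cl B) (e a) := by
  have hM : Submonoid.map (e : A →* B) A⁰ = B⁰ := by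
    ext b
    constructor
    · rintro ⟨a, ha, rfl⟩
      exact (MulEquivClass.map_nonZeroDivisors e).le ⟨a, ha, rfl⟩
    · intro hb
      rw [← MulEquivClass.map_nonZeroDivisors e] at hb
      exact hb
  let ε₀ : FractionRing A ≃+* FractionRing B := IsLocalization.ringEquivOfRingEquiv _ _ e hM
  have hε₀ : ∀ a, ε₀ (algebraMap A (FractionRing A) a) = algebraMap B (FractionRing B) (e a) := fun a =>
    IsLocalization.ringEquivOfRingEquiv_eq _ a
  have hint : ∀ x : FractionRing A, IsIntegral A x → IsIntegral B (ε₀ x) := by
    rintro x ⟨p, hp, hpx⟩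
    refine ⟨p.map e.toRingHom, hp.map _, ?_⟩
    rw [Polynomial.eval₂_map]
    have h1 : (algebraMap B (FractionRing B)).comp e.toRingHom = (ε₀ : FractionRing A →+* FractionRing B).comp
        (algebraMap A (FractionRing A)) := RingHom.ext fun a => (hε₀ a).symm
    rw [h1]
    change Polynomial.eval₂ _ ((ε₀ : FractionRing A →+* FractionRing B) x) p = 0
    rw [← Polynomial.hom_eval₂, hpx, map_zero]
  have hint' : ∀ x : FractionRing B, IsIntegral B x → IsIntegral A (ε₀.symm x) := by
    rintro x ⟨p, hp, hpx⟩
    refine ⟨p.map e.symm.toRingHom, hp.map _, ?_⟩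
    rw [Polynomial.eval₂_map]
    have h1 : (algebraMap A (FractionRing A)).comp e.symm.toRingHom =
        (ε₀.symm : FractionRing B →+* FractionRing A).comp (algebraMap B (FractionRing B)) :=
      RingHom.ext fun b => by
        change algebraMap A (FractionRing A) (e.symm b) = ε₀.symm (algebraMap B (FractionRing B) b)
        rw [RingEquiv.eq_symm_apply, hε₀, e.apply_symm_apply]
    rw [h1]
    change Polynomial.eval₂ _ ((ε₀.symm : FractionRing B →+* FractionRing A) x) p = 0
    rw [← Polynomial.hom_eval₂, hpx, map_zero]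
  refine ⟨{ toFun := fun x => ⟨ε₀ x.1, hint x.1 x.2⟩
            invFun := fun y => ⟨ε₀.symm y.1, hint' y.1 y.2⟩
            left_inv := fun x => Subtype.ext (ε₀.symm_apply_apply _)
            right_inv := fun y => Subtype.ext (ε₀.apply_symm_apply _)
            map_mul' := fun x y => Subtype.ext (map_mul ε₀ _ _)
            map_add' := fun x y => Subtype.ext (map_add ε₀ _ _) }, fun a => Subtype.ext (hε₀ a)⟩

theorem isSepClosed_of_ringEquiv {K L : Type*} [Field K] [Field L] (e : K ≃+* L) [IsSepClosed K] :
    IsSepClosed L := by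
  refine ⟨fun p hp => ?_⟩
  have h1 : (p.map e.symm.toRingHom).Separable := hp.map
  have h2 := (IsSepClosed.splits_of_separable (p.map e.symm.toRingHom) h1).map e.toRingHom
  rw [Polynomial.map_map] at h2
  have h3 : e.toRingHom.comp e.symm.toRingHom = RingHom.id L := RingHom.ext fun x => e.apply_symm_apply x
  rwa [h3, Polynomial.map_id] at h2

/-- Over a separably closed residue field every embedding is unique. -/
theorem subsingleton_emb (B L : Type u) [CommRing B] [IsLocalRing B] [Field L] [Algebra B L]
    [Module.Finite B L] [IsSepClosed (ResidueField B)] (Ω : Type u) [Field Ω] (φ : B →+* Ω)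
    (hφ : RingHom.ker φ = maximalIdeal B) (hker : RingHom.ker (algebraMap B L) = maximalIdeal B) :
    Subsingleton {σ : L →+* Ω // σ.comp (algebraMap B L) = φ} := by
  let κ := ResidueField B
  let ψ : κ →+* Ω := Ideal.Quotient.lift (maximalIdeal B) φ (fun a ha => by
    rw [← hφ] at ha; exact ha)
  let ρ : κ →+* L := Ideal.Quotient.lift (maximalIdeal B) (algebraMap B L) (fun a ha => by
    rw [← hker] at ha; exact ha)
  let _ : Algebra κ Ω := ψ.toAlgebra
  let _ : Algebra κ L := ρ.toAlgebra
  have : IsScalarTower B κ L := IsScalarTower.of_algebraMap_eq fun b => rfl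
  have hfin : Module.Finite κ L := Module.Finite.of_restrictScalars_finite B κ L
  let f : {σ : L →+* Ω // σ.comp (algebraMap B L) = φ} → (L →ₐ[κ] Ω) := fun σ =>
    { σ.1 with
      commutes' := fun c => by
        obtain ⟨b, rfl⟩ := residue_surjective c
        exact congrArg (fun h => h b) σ.2 }
  have hf : Function.Injective f := by
    intro σ τ h
    apply Subtype.ext
    ext x
    exact congrArg (fun h : L →ₐ[κ] Ω => h x) h
  haveI : IsSepClosed κ := inferInstanceAs (IsSepClosed (ResidueField B))
  haveI : IsPurelyInseparable κ L := inferInstance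
  exact hf.subsingleton

/-- With separably closed residue field there are at most as many geometric branches as maximal ideals of the
normalization. -/
theorem numGeomBranches_le (A : Type u) [CommRing A] [IsLocalRing A] [IsReduced A] (hN : CAlg.IsNagata A)
    [IsSepClosed (ResidueField A)] :
    Brnch.numGeomBranches A ≤ ENat.card (MaximalSpectrum (Cl A)) := by
  have hNoeth : IsNoetherianRing A := hN.1
  have hmin : (minimalPrimes A).Finite := minimalPrimes.finite_of_isNoetherianRing A
  have hbot : nilradical A = ⊥ := nilradical_eq_zero A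
  let B := CAlg2.red A
  let e : A ≃+* B := RingEquiv.ofBijective (Ideal.Quotient.mk (nilradical A))
    ⟨by
      intro x y h
      rw [Ideal.Quotient.eq, hbot, Ideal.mem_bot, sub_eq_zero] at h
      exact h, Ideal.Quotient.mk_surjective⟩
  have hlocB : IsLocalRing B := e.isLocalRing
  have hredB : IsReduced B := isReduced_of_injective e.symm.toRingHom e.symm.injective
  have hNB : CAlg.IsNagata B := Groth.Agent.Ega4B.NagBasic.isNagata_of_ringEquiv e hN
  have hfin : Module.Finite B (Cl B) := K421.NormCl.finite_cl B hNB
  haveI : IsSepClosed (ResidueField B) := isSepClosed_of_ringEquiv (ResidueField.mapEquiv e)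
  obtain ⟨ε, -⟩ := exists_equiv e
  unfold Brnch.numGeomBranches
  rw [if_pos hmin]
  have key : ∀ m : MaximalSpectrum (CAlg2.normRed A), Subsingleton (Brnch.Emb A m) := by
    intro m
    have hm := m.isMaximal
    let _ : Field (CAlg2.normRed A ⧸ m.asIdeal) := Ideal.Quotient.field m.asIdeal
    have hlift : ∀ a ∈ nilradical A, Brnch.toClosure A a = 0 := by
      intro a ha
      rw [hbot, Ideal.mem_bot] at ha
      rw [ha, map_zero]
    let φ : B →+* AlgebraicClosure (ResidueField A) :=
      Ideal.Quotient.lift (nilradical A) (Brnch.toClosure A) hlift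
    have hφ : RingHom.ker φ = maximalIdeal B := by
      ext b
      obtain ⟨a, rfl⟩ := e.surjective b
      rw [mem_maximalIdeal, mem_nonunits_iff, MulEquiv.isUnit_map e, RingHom.mem_ker]
      have h3 : φ (e a) = algebraMap (ResidueField A) (AlgebraicClosure (ResidueField A)) (residue A a) := rfl
      rw [h3, map_eq_zero, residue_eq_zero_iff, mem_maximalIdeal, mem_nonunits_iff]
    have hker : RingHom.ker (algebraMap B (CAlg2.normRed A ⧸ m.asIdeal)) = maximalIdeal B := by
      rw [← K421.NormCl.comap_eq_maximalIdeal B m.asIdeal]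
      ext b
      exact Ideal.Quotient.eq_zero_iff_mem
    have hfinL : Module.Finite B (CAlg2.normRed A ⧸ m.asIdeal) := inferInstance
    have h2 := subsingleton_emb B (CAlg2.normRed A ⧸ m.asIdeal) (AlgebraicClosure (ResidueField A)) φ hφ hker
    let ε : Brnch.Emb A m ≃ {σ : CAlg2.normRed A ⧸ m.asIdeal →+* AlgebraicClosure (ResidueField A) //
        σ.comp (algebraMap B (CAlg2.normRed A ⧸ m.asIdeal)) = φ} :=
      Equiv.subtypeEquivRight fun σ => by
        constructor
        · intro h
          apply RingHom.ext
          intro b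
          obtain ⟨a, rfl⟩ := e.surjective b
          exact congrArg (fun f => f a) h
        · intro h
          ext a
          exact congrArg (fun f => f (e a)) h
    exact ε.subsingleton
  have h1 : ENat.card (Σ m' : MaximalSpectrum (CAlg2.normRed A), Brnch.Emb A m') ≤
      ENat.card (MaximalSpectrum (CAlg2.normRed A)) := by
    refine ENat.card_le_card_of_injective (f := Sigma.fst) ?_
    rintro ⟨m, x⟩ ⟨m', x'⟩ (rfl : m = m')
    have := key m
    rw [Subsingleton.elim x x']
  refine h1.trans ?_
  refine ENat.card_le_card_of_injective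
    (f := fun m : MaximalSpectrum (Cl B) => (⟨m.asIdeal.comap ε,
      Ideal.comap_isMaximal_of_surjective (K := m.asIdeal) ε.toRingHom ε.surjective⟩ : MaximalSpectrum (Cl A))) ?_
  intro m m' h
  have h2 : m.asIdeal.comap ε = m'.asIdeal.comap ε := congrArg MaximalSpectrum.asIdeal h
  exact MaximalSpectrum.ext (Ideal.comap_injective_of_surjective ε ε.surjective h2)

/-- The main computation: if the delta invariant is smaller than the number of maximal ideals then all
residue extensions are trivial and the conductor is as large as possible. -/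
theorem main (B C : Type u) [CommRing B] [IsLocalRing B] [CommRing C] [Algebra B C]
    [Fintype (MaximalSpectrum C)]
    (hover : ∀ m : MaximalSpectrum C, m.asIdeal.comap (algebraMap B C) = maximalIdeal B)
    (hδ : Module.length B (C ⧸ LinearMap.range (Algebra.linearMap B C)) + 1 ≤ (Fintype.card (MaximalSpectrum C) : ℕ)) :
    (∀ m : MaximalSpectrum C, Function.Surjective (fun b : B => Ideal.Quotient.mk m.asIdeal (algebraMap B C b))) ∧
    ∀ c : C, (∃ b : B, ∀ m : MaximalSpectrum C, c - algebraMap B C b ∈ m.asIdeal) →
      c ∈ (algebraMap B C).range := by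
  classical
  let P := ∀ m : MaximalSpectrum C, C ⧸ m.asIdeal
  let π : C →ₗ[B] P := LinearMap.pi fun m => (Ideal.Quotient.mkₐ B m.asIdeal).toLinearMap
  have hπ : Function.Surjective π := by
    have hcop : Pairwise fun i j : MaximalSpectrum C => IsCoprime i.asIdeal j.asIdeal := by
      intro i j hij
      rw [Ideal.isCoprime_iff_sup_eq]
      exact Ideal.IsMaximal.coprime_of_ne i.isMaximal j.isMaximal
        (fun h => hij (MaximalSpectrum.ext h))
    intro w
    obtain ⟨c, hc⟩ := Ideal.pi_quotient_surjective hcop w
    exact ⟨c, funext fun i => hc i⟩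
  let D := C ⧸ LinearMap.range (Algebra.linearMap B C)
  let N : Submodule B P := (LinearMap.range (Algebra.linearMap B C)).map π
  have h1 : Module.length B P = Module.length B N + Module.length B (P ⧸ N) :=
    Module.length_eq_add_of_exact N.subtype N.mkQ N.injective_subtype N.mkQ_surjective
      (LinearMap.exact_subtype_mkQ N)
  let g : D →ₗ[B] (P ⧸ N) := (LinearMap.range (Algebra.linearMap B C)).mapQ N π (Submodule.le_comap_map _ _)
  have hg : Function.Surjective g := by
    intro z
    obtain ⟨w, rfl⟩ := Submodule.Quotient.mk_surjective _ z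
    obtain ⟨c, rfl⟩ := hπ w
    exact ⟨Submodule.Quotient.mk c, rfl⟩
  have h2 : Module.length B D = Module.length B (LinearMap.ker g) + Module.length B (P ⧸ N) :=
    Module.length_eq_add_of_exact (LinearMap.ker g).subtype g (LinearMap.ker g).injective_subtype hg
      (by rw [LinearMap.exact_iff, Submodule.range_subtype])
  have h3 : Module.length B N ≤ 1 := by
    have h4 : Module.length B (B ⧸ maximalIdeal B) = 1 := by
      rw [Module.length_eq_one_iff]
      exact isSimpleModule_iff_isCoatom.mpr (maximalIdeal.isMaximal B).out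
    rw [← h4]
    have hle : maximalIdeal B ≤ LinearMap.ker (π ∘ₗ Algebra.linearMap B C) := by
      intro b hb
      rw [LinearMap.mem_ker]
      funext m
      change Ideal.Quotient.mk m.asIdeal (algebraMap B C b) = 0
      rw [Ideal.Quotient.eq_zero_iff_mem]
      have : b ∈ m.asIdeal.comap (algebraMap B C) := by rw [hover m]; exact hb
      exact this
    let g : (B ⧸ maximalIdeal B) →ₗ[B] P :=
      Submodule.liftQ (maximalIdeal B) (π ∘ₗ Algebra.linearMap B C) hle
    have hg : LinearMap.range g = N := by
      rw [Submodule.range_liftQ, LinearMap.range_comp]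
    rw [← hg]
    exact Module.length_le_of_surjective g.rangeRestrict g.surjective_rangeRestrict
  have hlen : ∀ m : MaximalSpectrum C, 1 ≤ Module.length B (C ⧸ m.asIdeal) := by
    intro m
    rw [Order.one_le_iff_pos, Module.length_pos_iff]
    exact Ideal.Quotient.nontrivial_iff.mpr m.isMaximal.ne_top
  rw [Module.length_pi_of_fintype] at h1
  have hsum : (Fintype.card (MaximalSpectrum C) : ℕ∞) ≤ ∑ m : MaximalSpectrum C, Module.length B (C ⧸ m.asIdeal) := by
    have := Finset.sum_le_sum (s := (Finset.univ : Finset (MaximalSpectrum C)))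
      (f := fun _ => (1 : ℕ∞)) (g := fun m => Module.length B (C ⧸ m.asIdeal)) fun m _ => hlen m
    rwa [Finset.sum_const, nsmul_eq_mul, mul_one, Finset.card_univ] at this
  have hDfin : Module.length B D ≠ ⊤ := by
    intro h
    rw [show Module.length B (C ⧸ LinearMap.range (Algebra.linearMap B C)) = ⊤ from h, top_add] at hδ
    exact absurd hδ (by simp)
  have hPNle : Module.length B (P ⧸ N) ≤ Module.length B D := by
    rw [h2]; exact le_add_self
  have hPNfin : Module.length B (P ⧸ N) ≠ ⊤ := fun h => hDfin (top_le_iff.mp (h ▸ hPNle))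
  have hkfin : Module.length B (LinearMap.ker g) ≠ ⊤ := fun h => hDfin (by rw [h2, h, top_add])
  obtain ⟨a, ha⟩ := ENat.ne_top_iff_exists.mp hPNfin
  obtain ⟨b, hb⟩ := ENat.ne_top_iff_exists.mp hkfin
  have hNfin : Module.length B N ≠ ⊤ := fun h => by rw [h] at h3; exact absurd h3 (by simp)
  obtain ⟨c, hc⟩ := ENat.ne_top_iff_exists.mp hNfin
  have hδ' : Module.length B D + 1 ≤ (Fintype.card (MaximalSpectrum C) : ℕ∞) := hδ
  rw [h2, ← ha, ← hb] at hδ'
  rw [← hc, ← ha] at h1
  rw [← hc] at h3
  have h3' : c ≤ 1 := by exact_mod_cast h3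
  have hS : (Fintype.card (MaximalSpectrum C) : ℕ∞) ≤ ((c + a : ℕ) : ℕ∞) := by
    push_cast
    rw [← h1]; exact hsum
  have hS' : Fintype.card (MaximalSpectrum C) ≤ c + a := by exact_mod_cast hS
  have hδ'' : b + a + 1 ≤ Fintype.card (MaximalSpectrum C) := by exact_mod_cast hδ'
  have hb0 : b = 0 := by omega
  have hca : c + a = Fintype.card (MaximalSpectrum C) := by omega
  have hsum' : ∑ m : MaximalSpectrum C, Module.length B (C ⧸ m.asIdeal) = (Fintype.card (MaximalSpectrum C) : ℕ∞) := by
    rw [h1, ← hca]; push_cast; rfl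
  have hlen1 : ∀ m : MaximalSpectrum C, Module.length B (C ⧸ m.asIdeal) = 1 := by
    intro m
    refine le_antisymm ?_ (hlen m)
    by_contra hcon
    rw [not_le] at hcon
    have h5 : ∑ m : MaximalSpectrum C, (1 : ℕ∞) < ∑ m : MaximalSpectrum C, Module.length B (C ⧸ m.asIdeal) := by
      rw [← Finset.add_sum_erase _ _ (Finset.mem_univ m), ← Finset.add_sum_erase _ _ (Finset.mem_univ m)]
      refine ENat.add_lt_add_of_lt_of_le ?_ hcon (Finset.sum_le_sum fun m _ => hlen m)
      rw [Finset.sum_const, nsmul_eq_mul, mul_one]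
      exact ENat.natCast_ne_top _
    rw [hsum', Finset.sum_const, nsmul_eq_mul, mul_one, Finset.card_univ] at h5
    exact lt_irrefl _ h5
  refine ⟨fun m => ?_, ?_⟩
  · haveI : IsSimpleModule B (C ⧸ m.asIdeal) := Module.length_eq_one_iff.mp (hlen1 m)
    let l : B →ₗ[B] (C ⧸ m.asIdeal) := Algebra.linearMap B (C ⧸ m.asIdeal)
    have hl : l ≠ 0 := by
      intro h
      have h6 : l 1 = 0 := by rw [h]; rfl
      have h7 : (1 : C ⧸ m.asIdeal) = 0 := by rw [← h6]; exact (map_one (algebraMap B (C ⧸ m.asIdeal))).symm
      haveI := Ideal.Quotient.nontrivial_iff.mpr m.isMaximal.ne_top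
      exact one_ne_zero h7
    exact (LinearMap.surjective_or_eq_zero l).resolve_right hl
  · rintro x ⟨y, hy⟩
    have hinj : Function.Injective g := by
      rw [← LinearMap.ker_eq_bot]
      have h8 : Module.length B (LinearMap.ker g) = 0 := by rw [← hb, hb0]; rfl
      rw [Module.length_eq_zero_iff] at h8
      exact Submodule.subsingleton_iff_eq_bot.mp h8
    have h9 : π x = π (algebraMap B C y) := by
      funext m
      exact Ideal.Quotient.eq.mpr (hy m)
    have h10 : g (Submodule.Quotient.mk x) = 0 := by
      change Submodule.Quotient.mk (π x) = 0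
      rw [Submodule.Quotient.mk_eq_zero, h9]
      exact ⟨_, ⟨y, rfl⟩, rfl⟩
    have h11 : (Submodule.Quotient.mk x : D) = 0 := hinj (by rw [h10, map_zero])
    rw [Submodule.Quotient.mk_eq_zero] at h11
    obtain ⟨z, hz⟩ := h11
    exact ⟨z, hz⟩

end K428.Wedge
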