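import Mathlib.AlgebraicGeometry.ZariskisMainTheorem
import Groth.Agent.Dix.Cast5
import Groth.Agent.Divis.EffCartier
import Groth.Agent.Divis.IdealComap

/-!
# Quasi-finiteness along a closed subset; images of divisors under morphisms which are open immersions near them

* `quasiFiniteAt_of_isAffineOpen`
* `quasiFiniteAt_of_fibre`: if the fibre of `φ` through `ι y` lies in the image of the closed immersion `ι` and `ι ≫ φ`
  is quasi-finite at `y`, then `φ` is quasi-finite at `ι y`.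
* `isClosedImmersion_comp`: `ι ≫ f` is a closed immersion if it is proper and `f` is an open immersion near `ι`.
* `ker_comap`, `isEff_ker`: the ideal of the image divisor.
-/

set_option autoImplicit false
universe u
open CategoryTheory CategoryTheory.Limits AlgebraicGeometry TopologicalSpace Opposite

namespace K428.NBTop

set_option backward.isDefEq.respectTransparency false in
/-- A proper morphism which is affine over an affine open is quasi-finite over it. -/
theorem quasiFiniteAt_of_isAffineOpen {X P : Scheme.{u}} (φ : X ⟶ P) [IsProper φ] {U : P.Opens}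
    (hU : IsAffineOpen U) (hU' : IsAffineOpen (φ ⁻¹ᵁ U)) {x : X} (hx : φ x ∈ U) : φ.QuasiFiniteAt x := by
  have : IsAffine U := hU
  have : IsAffine (φ ⁻¹ᵁ U) := hU'
  have hfin : IsFinite (φ ∣_ U) := by
    have : IsAffineHom (φ ∣_ U) := isAffineHom_of_isAffine _
    exact IsFinite.iff_isProper_and_isAffineHom.2 ⟨inferInstance, inferInstance⟩
  have h1 : (φ ∣_ U).QuasiFiniteAt ⟨x, (show x ∈ φ ⁻¹ᵁ U from hx)⟩ := Scheme.Hom.quasiFiniteAt _ _
  rw [← Scheme.Hom.quasiFiniteAt_comp_iff (g := U.ι), morphismRestrict_ι,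
    Scheme.Hom.quasiFiniteAt_comp_iff_of_isOpenImmersion] at h1
  exact h1

theorem quasiFiniteAt_iff_isOpen {X P : Scheme.{u}} (φ : X ⟶ P) [LocallyOfFiniteType φ] (x : X) :
    φ.QuasiFiniteAt x ↔ ∃ W : Set X, IsOpen W ∧ x ∈ W ∧ ∀ z ∈ W, φ z = φ x → z = x := by
  rw [Scheme.Hom.quasiFiniteAt_iff_isOpen_singleton_asFiber, ← (φ.fiberHomeo (φ x)).isOpen_image]
  simp only [Set.image_singleton, Scheme.Hom.asFiber, Homeomorph.apply_symm_apply]
  constructor
  · intro h
    obtain ⟨W, hW, hWx⟩ := isOpen_induced_iff.1 h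
    refine ⟨W, hW, ?_, fun z hz hzx => ?_⟩
    · have h1 : (⟨x, rfl⟩ : φ ⁻¹' {φ x}) ∈ Subtype.val ⁻¹' W := by rw [hWx]; rfl
      exact h1
    · have h1 : (⟨z, hzx⟩ : φ ⁻¹' {φ x}) ∈ Subtype.val ⁻¹' W := hz
      rw [hWx] at h1
      exact congrArg Subtype.val h1
  · rintro ⟨W, hW, hxW, h⟩
    refine isOpen_induced_iff.2 ⟨W, hW, ?_⟩
    ext ⟨z, hz⟩
    constructor
    · intro hzW
      exact Subtype.ext (h z hzW hz)
    · intro hzx
      have h1 : z = x := congrArg Subtype.val hzx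
      change z ∈ W
      rw [h1]
      exact hxW

theorem quasiFiniteAt_of_fibre {Y X P : Scheme.{u}} (ι : Y ⟶ X) [IsClosedImmersion ι] (φ : X ⟶ P)
    [LocallyOfFiniteType φ] (y : Y) (hfib : ∀ x, φ x = φ (ι y) → x ∈ Set.range ι)
    (h : (ι ≫ φ).QuasiFiniteAt y) : φ.QuasiFiniteAt (ι y) := by
  rw [quasiFiniteAt_iff_isOpen] at h ⊢
  obtain ⟨W, hW, hyW, hWy⟩ := h
  obtain ⟨W', hW', rfl⟩ := ι.isClosedEmbedding.isInducing.isOpen_iff.1 hW
  refine ⟨W', hW', hyW, fun z hz hzy => ?_⟩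
  obtain ⟨y', rfl⟩ := hfib z hzy
  rw [hWy y' hz (by rw [Scheme.Hom.comp_apply, Scheme.Hom.comp_apply, hzy])]

section

variable {Y X X' : Scheme.{u}} (ι : Y ⟶ X) (f : X ⟶ X') (V : X.Opens) (hV : Set.range ι ⊆ V)

/-- The lift of `ι` to the neighbourhood `V`. -/
noncomputable def lft : Y ⟶ V := IsOpenImmersion.lift V.ι ι (by simpa using hV)

@[reassoc (attr := simp)]
theorem lft_ι : lft ι V hV ≫ V.ι = ι := IsOpenImmersion.lift_fac _ _ _

theorem lft_comp : lft ι V hV ≫ V.ι ≫ f = ι ≫ f := by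
  rw [lft_ι_assoc]

variable [IsClosedImmersion ι] [IsOpenImmersion (V.ι ≫ f)]

theorem mono_lft : Mono (lft ι V hV) := by
  have : Mono (lft ι V hV ≫ V.ι) := by rw [lft_ι]; infer_instance
  exact mono_of_mono (lft ι V hV) V.ι

include hV in
theorem mono_ιf : Mono (ι ≫ f) := by
  have h0 : lft ι V hV ≫ V.ι ≫ f = ι ≫ f := lft_comp ι f V hV
  have h1 := mono_lft ι V hV
  rw [← h0]
  exact CategoryTheory.mono_comp _ _

include hV in
theorem isClosedImmersion_comp [IsProper (ι ≫ f)] : IsClosedImmersion (ι ≫ f) := by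
  have := mono_ιf ι f V hV
  exact (IsClosedImmersion.iff_isProper_and_mono _).2 ⟨inferInstance, inferInstance⟩

omit [IsClosedImmersion ι] in
include hV in
/-- The ideal of the image of `ι` pulls back to the ideal of `ι`. -/
theorem ker_comap (U : X'.Opens) (hU : V = f ⁻¹ᵁ U) [IsClosedImmersion (ι ≫ f)] :
    (ι ≫ f).ker.comap f = ι.ker := by
  rw [← Scheme.IdealSheafData.ker_fst_of_isClosedImmersion]
  have hp : IsPullback ι (𝟙 Y) f (ι ≫ f) := by
    refine IsPullback.of_isLimit' ⟨by simp⟩ (PullbackCone.IsLimit.mk _ (fun s => s.snd) (fun s => ?_)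
      (fun s => by simp) ?_)
    · have hr : Set.range s.fst ⊆ Set.range V.ι := by
        rintro _ ⟨t, rfl⟩
        rw [Scheme.Opens.range_ι]
        have h1 : f (s.fst t) = f (ι (s.snd t)) := by
          rw [← Scheme.Hom.comp_apply, s.condition, Scheme.Hom.comp_apply, Scheme.Hom.comp_apply]
        have h2 : ι (s.snd t) ∈ V := hV ⟨_, rfl⟩
        rw [hU] at h2 ⊢
        change f (s.fst t) ∈ U
        rw [h1]
        exact h2
      have h3 : IsOpenImmersion.lift V.ι s.fst hr ≫ V.ι = s.fst := IsOpenImmersion.lift_fac _ _ _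
      have h4 : IsOpenImmersion.lift V.ι s.fst hr = s.snd ≫ lft ι V hV := by
        rw [← cancel_mono (V.ι ≫ f), reassoc_of% h3, Category.assoc, lft_comp]
        exact s.condition
      rw [← h3, h4, Category.assoc, lft_ι]
    · intro s m _ h2
      simpa using h2
  have h1 : (hp.isoPullback.hom ≫ pullback.fst f (ι ≫ f)).ker = ι.ker := by
    rw [hp.isoPullback_hom_fst]
  rw [← h1, Scheme.Hom.ker_comp_of_isIso]

end

theorem ideal_eq_top {X : Scheme.{u}} (I : X.IdealSheafData) (V : X.affineOpens)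
    (h : ∀ x ∈ V.1, x ∉ I.support) : I.ideal V = ⊤ := by
  rw [← PrimeSpectrum.zeroLocus_empty_iff_eq_top]
  have h1 := I.coe_support_inter V
  have h2 := V.2.fromSpec_image_zeroLocus (I.ideal V)
  rw [← h1] at h2
  have h3 : ((I.support : Set X) ∩ (V.1 : Set X)) = ∅ := by
    ext x
    simp only [Set.mem_inter_iff, Set.mem_empty_iff_false, iff_false, not_and]
    exact fun hx hV => h x hV hx
  exact Set.image_eq_empty.1 (h2.trans h3)

open Groth.Agent.Divis.IdealComap Groth.Agent.Divis.EffCartier in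
theorem isEff_of_comap {W W₀ : Scheme.{u}} (jj : W₀ ⟶ W) [IsOpenImmersion jj] {I : W.IdealSheafData}
    (h : (I.support : Set W) ⊆ Set.range jj) (hI : BlowUp.IsEffCartierIdeal (I.comap jj)) :
    BlowUp.IsEffCartierIdeal I := by
  intro x
  by_cases hx : x ∈ I.support
  · obtain ⟨w, rfl⟩ := h hx
    obtain ⟨V, hwV, a, ha, hIa⟩ := hI w
    refine ⟨⟨jj ''ᵁ V.1, V.2.image_of_isOpenImmersion jj⟩, ⟨w, hwV, rfl⟩, (jj.appIso V.1).inv.hom a, ?_, ?_⟩
    · exact map_mem_nonZeroDivisors_of_flat _ (RingHom.Flat.of_bijective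
        (ConcreteCategory.bijective_of_isIso (jj.appIso V.1).inv)) ha
    · have h1 := ideal_comap_of_isOpenImmersion I jj ⟨jj ''ᵁ V.1, V.2.image_of_isOpenImmersion jj⟩ V
        (jj.preimage_image_eq V.1).ge
      rw [hIa, ← Scheme.Hom.appIso_hom'] at h1
      have h2 := congr(Ideal.map (jj.appIso V.1).inv.hom $h1)
      rw [Ideal.map_map, ← CommRingCat.hom_comp, Iso.hom_inv_id, Ideal.map_span, Set.image_singleton] at h2
      rw [h2]
      simp
  · obtain ⟨U, hU, hxU, hle⟩ := exists_isAffineOpen_mem_and_subset (U := I.support.compl) (x := x) hx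
    refine ⟨⟨U, hU⟩, hxU, 1, one_mem _, ?_⟩
    have h3 : I.ideal ⟨U, hU⟩ = ⊤ := ideal_eq_top I ⟨U, hU⟩ fun y hy => hle hy
    rw [h3, Ideal.span_singleton_one]

/-- The image divisor is effective Cartier. -/
theorem isEff_ker {Y X X' : Scheme.{u}} (ι : Y ⟶ X) (f : X ⟶ X') (V : X.Opens) (hV : Set.range ι ⊆ V)
    [IsClosedImmersion ι] [IsOpenImmersion (V.ι ≫ f)] [IsClosedImmersion (ι ≫ f)]
    (h : BlowUp.IsEffCartierIdeal ι.ker) : BlowUp.IsEffCartierIdeal (ι ≫ f).ker := by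
  have e1 : ι.ker.comap V.ι = (lft ι V hV).ker := by
    have h1 : IsClosedImmersion (lft ι V hV ≫ V.ι) := by rw [lft_ι]; infer_instance
    have h2 := Groth.Agent.Dix.Cast5.ker_comap_of_mono V.ι (lft ι V hV)
    have h3 : ∀ (g : Y ⟶ X) (_ : g = ι), g.ker.comap V.ι = ι.ker.comap V.ι := by
      rintro g rfl; rfl
    rw [← h2, h3 _ (lft_ι ι V hV)]
  have e2 : (ι ≫ f).ker.comap (V.ι ≫ f) = (lft ι V hV).ker := by
    have h1 : IsClosedImmersion (lft ι V hV ≫ V.ι ≫ f) := by rw [lft_comp]; infer_instance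
    have h2 := Groth.Agent.Dix.Cast5.ker_comap_of_mono (V.ι ≫ f) (lft ι V hV)
    have h3 : ∀ (g : Y ⟶ X') (_ : g = ι ≫ f), g.ker.comap (V.ι ≫ f) = (ι ≫ f).ker.comap (V.ι ≫ f) := by
      rintro g rfl; rfl
    rw [← h2, h3 _ (lft_comp ι f V hV)]
  refine isEff_of_comap (V.ι ≫ f) ?_ ?_
  · rw [Scheme.Hom.support_ker]
    have h1 : closure (Set.range (ι ≫ f)) = Set.range (ι ≫ f) :=
      (ι ≫ f).isClosedEmbedding.isClosed_range.closure_eq
    refine (show (_ : Set X') ⊆ _ from h1.le).trans ?_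
    rintro _ ⟨y, rfl⟩
    refine ⟨lft ι V hV y, ?_⟩
    rw [← Scheme.Hom.comp_apply, lft_comp]
  · rw [e2, ← e1]
    exact Groth.Agent.Divis.EffCartier.isEff_comap_flat h V.ι

end K428.NBTop
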