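import Groth.Agent.Ega2.AmpleSec
import Groth.Agent.Ega2.SecCalc
import Groth.Agent.Fdesc.LocGenGlue
import Groth.Prelude.Def_ProjUP

/-!
# Sections of powers of an ample module which vanish on a closed subscheme

* `app_eq_zero_of_pullSec`, `pullSec_eq_zero_of_local`: the condition `i^* s = 0` in terms of local coefficients.
* `exists_pow_killed`: if the generating locus of `t : O ⟶ L^d` misses the (compact) `Z`, a power of `t`
  vanishes on `Z`.
* `exists_local`, `exists_family`: for `L` ample and an open `U` missing `Z`: affine opens `V` of `U`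
  covering `U` such that for all large `n` there are `v` in `Γ(L^n)` vanishing on `Z` with `X_v = V` and such that
  `c • v` extends to a section vanishing on `Z` for `c` in a given finite set of functions on `V`.
-/

set_option autoImplicit false
universe u
open CategoryTheory CategoryTheory.Limits AlgebraicGeometry TopologicalSpace Opposite
open Groth.Agent.Fdesc.LocGen
open Groth.Agent.Ega2 Groth.Agent.Ega2.TensPow Groth.Agent.Ega2.SecCalc

namespace K428.KerSec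

variable {X Z : Scheme.{u}} (i : Z ⟶ X)

theorem app_eq_zero_of_pullSec {M : X.Modules} {s : Γ(M, ⊤)} (h : pullSec i s = 0) {V : X.Opens}
    {e : Γ(M, V)} (he : IsGen e) {a : Γ(X, V)} (ha : res M le_top s = a • e) : i.app V a = 0 := by
  have h1 : pullSec i (res M (le_top : V ≤ ⊤) s) = 0 := by
    rw [← res_pullSec, h, map_zero]
  rw [ha, pullSec_smul] at h1
  exact (he.pullSec i).ext (h1.trans (zero_smul _ _).symm)

theorem pullSec_eq_zero_of_local {M : X.Modules} {s : Γ(M, ⊤)}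
    (h : ∀ z : Z, ∃ (V : X.Opens) (e : Γ(M, V)) (a : Γ(X, V)) (W : Z.Opens) (hW : W ≤ i ⁻¹ᵁ V),
      z ∈ W ∧ res M le_top s = a • e ∧ ores hW (i.app V a) = 0) : pullSec i s = 0 := by
  choose V e a W hWV hz hs ha using h
  refine res_ext _ (fun z => W z) (fun z => le_top) ?_ (fun z => ?_)
  · intro z _
    exact Opens.mem_iSup.mpr ⟨z, hz z⟩
  · refine Eq.trans ?_ (map_zero (res ((Scheme.Modules.pullback i).obj M) _)).symm
    have h1 := res_pullSec i (le_top : V z ≤ ⊤) s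
    have h2 := congrArg (res _ (hWV z)) h1
    rw [res_res] at h2
    refine h2.trans ?_
    rw [hs, pullSec_smul, res_smul, ha, zero_smul]

/-- If `Z` does not meet `X_t`, the coefficients of `t` are nilpotent on `Z`, uniformly. -/
theorem exists_nilpotent [CompactSpace Z] {L : X.Modules} (hL : PicF.IsInvertible L) {d : ℕ}
    (t : Coh.structureModule X ⟶ CohB1.tensorPow L d) (ht : ∀ z, i z ∉ CohB1.genLocus _ t) :
    ∃ N : ℕ, ∀ z : Z, ∃ (V : X.Opens) (e : Γ(L, V)) (g : Γ(X, V)) (W : Z.Opens) (hW : W ≤ i ⁻¹ᵁ V),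
      z ∈ W ∧ IsGen e ∧ sec t V = g • pow e d ∧ ores hW (i.app V g) ^ N = 0 := by
  classical
  have h1 : ∀ z : Z, ∃ (V : X.Opens) (e : Γ(L, V)) (g : Γ(X, V)) (W : Z.Opens) (hW : W ≤ i ⁻¹ᵁ V) (N : ℕ),
      z ∈ W ∧ IsGen e ∧ sec t V = g • pow e d ∧ ores hW (i.app V g) ^ N = 0 := by
    intro z
    obtain ⟨V, e, hzV, he⟩ := (isInvertible_iff L).mp hL (i z)
    obtain ⟨g, hg⟩ := (he.pow d).exists_eq (sec t V)
    obtain ⟨_, ⟨W, hW, rfl⟩, hzW, hWV⟩ := Z.isBasis_affineOpens.exists_subset_of_mem_open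
      (show z ∈ (i ⁻¹ᵁ V : Z.Opens) from hzV) (i ⁻¹ᵁ V).2
    have hb : X.basicOpen g ≤ CohB1.genLocus _ t := by
      rw [← genLocus_inf_eq t (he.pow d) hg]
      exact inf_le_left
    have hbot : Z.basicOpen (ores hWV (i.app V g)) = ⊥ := by
      have h2 : Z.basicOpen (ores hWV (i.app V g)) = W ⊓ Z.basicOpen (i.app V g) := Z.basicOpen_res _ _
      rw [h2, ← Scheme.preimage_basicOpen, eq_bot_iff]
      rintro y ⟨-, hy⟩
      exact ht y (hb hy)
    obtain ⟨N, hN⟩ := (Scheme.isNilpotent_iff_basicOpen_eq_bot_of_isCompact hW.isCompact _).mpr hbot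
    exact ⟨V, e, g, W, hWV, N, hzW, he, hg, hN⟩
  choose V e g W hWV N hzW he hg hN using h1
  obtain ⟨s, hs⟩ := isCompact_univ.elim_finite_subcover (fun z : Z => (W z : Set Z)) (fun z => (W z).2)
    (fun z _ => Set.mem_iUnion.mpr ⟨z, hzW z⟩)
  refine ⟨s.sup N, fun z => ?_⟩
  obtain ⟨y, hy, hzy⟩ := Set.mem_iUnion₂.mp (hs (Set.mem_univ z))
  refine ⟨V y, e y, g y, W y, hWV y, hzy, he y, hg y, ?_⟩
  obtain ⟨r, hr⟩ := Nat.exists_eq_add_of_le (Finset.le_sup (f := N) hy)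
  rw [hr, pow_add, hN, zero_mul]

/-- If `Z` does not meet `X_t`, all multiples of a power of `t` vanish on `Z`. -/
theorem exists_pow_killed [CompactSpace Z] {L : X.Modules} (hL : PicF.IsInvertible L) {d : ℕ}
    (t : Coh.structureModule X ⟶ CohB1.tensorPow L d) (ht : ∀ z, i z ∉ CohB1.genLocus _ t) :
    ∃ N : ℕ, 0 < N ∧ ∀ (m : ℕ) (v : Coh.structureModule X ⟶ CohB1.tensorPow L m),
      pullSec i (sec (mulSec (powSec t N) v) ⊤) = 0 := by
  obtain ⟨N, hN⟩ := exists_nilpotent i hL t ht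
  refine ⟨N + 1, Nat.succ_pos N, fun m v => pullSec_eq_zero_of_local i fun z => ?_⟩
  obtain ⟨V, e, g, W, hWV, hzW, he, hg, hgN⟩ := hN z
  obtain ⟨b, hb⟩ := (he.pow m).exists_eq (sec v V)
  refine ⟨V, pow e (d * (N + 1) + m), g ^ (N + 1) * b, W, hWV, hzW, ?_, ?_⟩
  · rw [res_sec, sec_mulSec, sec_powSec, hg, hb, smul_pow, Scheme.Modules.Hom.app_smul, powMul_pow,
      smul_tmul, tmul_smul, smul_smul, Scheme.Modules.Hom.app_smul, powAdd_pow]
  · rw [map_mul, map_mul, map_pow, map_pow, pow_succ, hgN, zero_mul, zero_mul]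

theorem sec_mulSec_smul {L : X.Modules} {m n : ℕ} (q : Coh.structureModule X ⟶ CohB1.tensorPow L m)
    (v w : Coh.structureModule X ⟶ CohB1.tensorPow L n) {V : X.Opens} {c : Γ(X, V)}
    (h : sec w V = c • sec v V) : sec (mulSec q w) V = c • sec (mulSec q v) V := by
  rw [sec_mulSec, sec_mulSec, h, tmul_smul, Scheme.Modules.Hom.app_smul]

variable {L : X.Modules}

/-- Local version. -/
theorem exists_local [CompactSpace Z] [QuasiSeparatedSpace X] (hL : CohB1.IsAmple L) (U : X.Opens)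
    (hU : ∀ z, i z ∉ U) (C : ∀ V : X.Opens, Set Γ(X, V)) (hC : ∀ V : X.Opens, IsAffineOpen V → (C V).Finite)
    (x : X) (hx : x ∈ U) :
    ∃ V : X.Opens, x ∈ V ∧ V ≤ U ∧ IsAffineOpen V ∧ ∃ n₀ : ℕ, ∀ n, n₀ ≤ n →
      ∃ v : Coh.structureModule X ⟶ CohB1.tensorPow L n, CohB1.genLocus _ v = V ∧
        pullSec i (sec v ⊤) = 0 ∧
        ∀ c ∈ C V, ∃ w : Coh.structureModule X ⟶ CohB1.tensorPow L n,
          pullSec i (sec w ⊤) = 0 ∧ sec w V = c • sec v V := by
  have hinv := hL.1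
  have hcpt : CompactSpace X := hL.2.1
  obtain ⟨W, e, hxW, he⟩ := (isInvertible_iff L).mp hinv x
  obtain ⟨d, t, hxt, htW, haff⟩ := AmpleSec.exists_affine_genLocus_nhd hL (W ⊓ U) x ⟨hxW, hx⟩
  obtain ⟨n₁, hn₁⟩ := AmpleSec.exists_sections hinv (Nat.succ_pos d) t (res L (htW.trans inf_le_left) e)
    (he.res _) (C _) (hC _ haff)
  obtain ⟨N, hN0, hN⟩ := exists_pow_killed i hinv t (fun z hz => hU z (htW hz).2)
  refine ⟨CohB1.genLocus _ t, hxt, htW.trans inf_le_right, haff, (d + 1) * N + n₁, fun n hn => ?_⟩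
  obtain ⟨m, rfl⟩ : ∃ m, n = (d + 1) * N + m := Nat.exists_eq_add_of_le ((Nat.le_add_right _ _).trans hn)
  obtain ⟨v, hv, hvC⟩ := hn₁ m (by omega)
  refine ⟨mulSec (powSec t N) v, ?_, hN m v, fun c hc => ?_⟩
  · rw [genLocus_mulSec hinv, genLocus_powSec hinv t hN0.ne', hv, inf_idem]
  · obtain ⟨w, hw⟩ := hvC c hc
    exact ⟨mulSec (powSec t N) w, hN m w, sec_mulSec_smul _ _ _ hw⟩

/-- Uniform version over a quasi-compact open. -/
theorem exists_family [CompactSpace Z] [QuasiSeparatedSpace X] (hL : CohB1.IsAmple L) (U : X.Opens)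
    (hUc : IsCompact (U : Set X))
    (hU : ∀ z, i z ∉ U) (C : ∀ V : X.Opens, Set Γ(X, V)) (hC : ∀ V : X.Opens, IsAffineOpen V → (C V).Finite) :
    ∃ n₀ : ℕ, ∀ n, n₀ ≤ n → ∀ x ∈ U, ∃ V : X.Opens, x ∈ V ∧ V ≤ U ∧ IsAffineOpen V ∧
      ∃ v : Coh.structureModule X ⟶ CohB1.tensorPow L n, CohB1.genLocus _ v = V ∧
        pullSec i (sec v ⊤) = 0 ∧
        ∀ c ∈ C V, ∃ w : Coh.structureModule X ⟶ CohB1.tensorPow L n,
          pullSec i (sec w ⊤) = 0 ∧ sec w V = c • sec v V := by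
  classical
  choose! V hxV hVU hV n₀ hn₀ using exists_local i hL U hU C hC
  obtain ⟨s, hsU, hs⟩ := hUc.elim_nhds_subcover (fun x : X => (V x : Set X))
    (fun x hx => (V x).2.mem_nhds (hxV x hx))
  refine ⟨s.sup n₀, fun n hn x hx => ?_⟩
  obtain ⟨y, hy, hxy⟩ := Set.mem_iUnion₂.mp (hs hx)
  obtain ⟨v, hv⟩ := hn₀ y (hsU y hy) n ((Finset.le_sup (f := n₀) hy).trans hn)
  exact ⟨V y, hxy, hVU y (hsU y hy), hV y (hsU y hy), v, hv⟩

end K428.KerSec
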