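import Groth.Agent.Variety.K428.NBStab
import Groth.Agent.Variety.K428.NBTop
import Groth.Agent.Ega1.AmpFam
import Groth.Agent.Ega2.SecCalc
import Groth.Agent.CurvesC.ProjMap
import Groth.Agent.VarietyA.AmpleField

/-!
# The morphism to projective space attached to a divisor with ample normal bundle
-/

set_option autoImplicit false
set_option backward.isDefEq.respectTransparency false
universe u
open CategoryTheory CategoryTheory.Limits AlgebraicGeometry TopologicalSpace Opposite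

namespace K428.NBMor

open Groth.Agent.Fdesc.LocGen Groth.Agent.Grpsch.PicGrp Groth.Agent.Ega2.SecCalc
open Groth.Agent.Dix.IdealModCartier
open Groth.Agent.CurvesC.ProjSpaceBasic (Dp)

/-- The canonical section of the inverse of the ideal of a divisor. -/
theorem exists_canonical {X Y : Scheme.{u}} (ι : Y ⟶ X) [IsClosedImmersion ι] (L : X.Modules)
    (hL : ClSub.IsInverseOf L (ClSub.idealMod ι.ker)) :
    ∃ s : Coh.structureModule X ⟶ L, (CohB1.genLocus L s : Set X) = (Set.range ι)ᶜ := by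
  have hLi := (isInvertible_of_isInverseOf hL).1
  have hI := (isInvertible_of_isInverseOf hL).2
  have heff := isEffCartierIdeal_of_isInverseOf hL
  obtain ⟨s, hs⟩ := Groth.Agent.Dix.Cast5.exists_section ι heff
  have h1 : mk L hLi * mk (ClSub.idealMod ι.ker) hI = 1 := by
    obtain ⟨θ⟩ := hL
    rw [mk_mul_mk, mk_eq_one_iff]
    exact ⟨θ⟩
  have h2 : mk (dual (ClSub.idealMod ι.ker)) (isInvertible_dual hI) = mk L hLi := by
    rw [← inv_mk]
    exact (eq_inv_of_mul_eq_one_left h1).symm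
  rw [mk_eq_iff] at h2
  obtain ⟨e⟩ := h2
  refine ⟨s ≫ e.hom, ?_⟩
  rw [genLocus_comp, hs]

theorem exists_mor (k : Type u) [Field k] {X : Scheme.{u}} [X.Over (Spec (CommRingCat.of k))]
    [IsProper (X ↘ (Spec (CommRingCat.of k)))] {Y : Scheme.{u}} (ι : Y ⟶ X) [IsClosedImmersion ι]
    (L : X.Modules) (hL : ClSub.IsInverseOf L (ClSub.idealMod ι.ker)) (hLi : PicF.IsInvertible L)
    (hN : CohB1.IsAmple ((Scheme.Modules.pullback ι).obj L)) :
    ∃ (r n : ℕ) (φ : X ⟶ CohB1.ProjSpace r k), 0 < n ∧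
      φ ≫ CohB1.ProjSpace.toSpec r k = X ↘ (Spec (CommRingCat.of k)) ∧
      pull φ (mk (Twist.twistProjSpace r k 1) (Groth.Agent.VarietyA.AmpleField.isAmple_twistProjSpace r k).1) =
        mk L hLi ^ n ∧ ∀ y, φ.QuasiFiniteAt (ι y) := by
  obtain ⟨d, J, hJ, s, hsa, hsc⟩ := exists_common_cover hN
  obtain ⟨m₀, hm₀⟩ := K428.NBStab.exists_lift k ι L hL hN
  obtain ⟨c, hc⟩ := exists_canonical ι L hL
  let n := (d + 1) * (m₀ + 1)
  have hn : m₀ ≤ n := by
    have h1 : 1 * (m₀ + 1) ≤ (d + 1) * (m₀ + 1) := Nat.mul_le_mul_right _ (Nat.succ_le_succ (Nat.zero_le d))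
    omega
  have hn0 : 0 < n := Nat.mul_pos (Nat.succ_pos d) (Nat.succ_pos m₀)
  have hcl : mk (CohB1.tensorPow ((Scheme.Modules.pullback ι).obj L) n) (isInvertible_tensorPow hN.1 n) =
      mk ((Scheme.Modules.pullback ι).obj (CohB1.tensorPow L n))
        (isInvertible_pullback ι (isInvertible_tensorPow hLi n)) := by
    rw [mk_tensorPow hN.1, ← pull_mk ι hLi, ← pull_mk ι (isInvertible_tensorPow hLi n), mk_tensorPow hLi, map_pow]
  rw [mk_eq_iff] at hcl
  obtain ⟨e⟩ := hcl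
  let σ : J → (Coh.structureModule Y ⟶ (Scheme.Modules.pullback ι).obj (CohB1.tensorPow L n)) := fun j =>
    powSec (s j) (m₀ + 1) ≫ e.hom
  have hσ : ∀ j, CohB1.genLocus _ (σ j) = CohB1.genLocus _ (s j) := fun j => by
    rw [genLocus_comp, genLocus_powSec hN.1 (s j) (Nat.succ_ne_zero m₀)]
  choose t ht using fun j => hm₀ n hn (sec (σ j) ⊤)
  have ht' : ∀ j, ι ⁻¹ᵁ CohB1.genLocus _ (homOf (t j)) = CohB1.genLocus _ (s j) := by
    intro j
    rw [← Groth.Agent.Ega1.AmpFam.genLocus_pullHom ι (isInvertible_tensorPow hLi n), pullHom, sec_homOf, res_refl,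
      ht, homOf_sec, hσ]
  obtain ⟨r, ⟨eJ⟩⟩ := Finite.exists_equiv_fin J
  let S : Fin (r + 1) → (Coh.structureModule X ⟶ CohB1.tensorPow L n) :=
    Fin.cons (powHom c n) fun j => homOf (t (eJ.symm j))
  have hS0 : S 0 = powHom c n := rfl
  have hSj : ∀ j : Fin r, S j.succ = homOf (t (eJ.symm j)) := fun j => rfl
  have hc' : CohB1.genLocus _ (S 0) = CohB1.genLocus _ c := by
    rw [hS0]
    obtain ⟨n', hn'⟩ := Nat.exists_eq_succ_of_ne_zero hn0.ne'
    rw [hn']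
    exact genLocus_powHom hLi c n'
  have hmem : ∀ x, x ∈ CohB1.genLocus _ c ↔ x ∉ Set.range ι := by
    intro x
    have : x ∈ (CohB1.genLocus _ c : Set X) ↔ x ∈ (Set.range ι)ᶜ := by rw [hc]
    exact this
  have hex : ∀ y : Y, ∃ j : Fin r, y ∈ ι ⁻¹ᵁ CohB1.genLocus _ (S j.succ) ∧
      IsAffineOpen (ι ⁻¹ᵁ CohB1.genLocus _ (S j.succ)) := by
    intro y
    have h1 : y ∈ ⨆ j, CohB1.genLocus _ (s j) := by rw [hsc]; trivial
    obtain ⟨j, hj⟩ := Opens.mem_iSup.1 h1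
    refine ⟨eJ j, ?_⟩
    rw [hSj, ht', Equiv.symm_apply_apply]
    exact ⟨hj, hsa j⟩
  have hcov : ⨆ i, CohB1.genLocus _ (S i) = ⊤ := by
    rw [eq_top_iff]
    intro x _
    by_cases hx : x ∈ Set.range ι
    · obtain ⟨y, rfl⟩ := hx
      obtain ⟨j, hj, -⟩ := hex y
      exact Opens.mem_iSup.2 ⟨j.succ, hj⟩
    · exact Opens.mem_iSup.2 ⟨0, by rw [hc']; exact (hmem x).2 hx⟩
  obtain ⟨φ, -, hφ, hpre, -, e', -⟩ := Groth.Agent.CurvesC.ProjMap.exists_morphism
    (X ↘ (Spec (CommRingCat.of k))) (CohB1.tensorPow L n) S hcov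
  have hprop : IsProper (φ ≫ CohB1.ProjSpace.toSpec r k) := by rw [hφ]; infer_instance
  have hφp : IsProper φ := IsProper.of_comp φ (CohB1.ProjSpace.toSpec r k)
  have hPaff : ∀ i, IsAffineOpen (Dp r k i) := fun i =>
    Proj.isAffineOpen_basicOpen (CohB1.polyGrading r k) (m := 1) _
      (MvPolynomial.isHomogeneous_X _ i) Nat.one_pos
  refine ⟨r, n, φ, hn0, hφ, ?_, fun y => ?_⟩
  · rw [pull_mk, ← mk_tensorPow hLi, mk_eq_iff]
    exact ⟨e'⟩
  · obtain ⟨j, hj, hja⟩ := hex y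
    refine K428.NBTop.quasiFiniteAt_of_fibre ι φ y (fun x hx => ?_) ?_
    · by_contra hxn
      have h1 : x ∈ φ ⁻¹ᵁ Dp r k 0 := by rw [hpre, hc', hmem]; exact hxn
      have h2 : ι y ∈ φ ⁻¹ᵁ Dp r k 0 := by
        change φ (ι y) ∈ Dp r k 0
        rw [← hx]
        exact h1
      rw [hpre, hc', hmem] at h2
      exact h2 ⟨y, rfl⟩
    · have h1 : (ι ≫ φ) ⁻¹ᵁ Dp r k j.succ = ι ⁻¹ᵁ CohB1.genLocus _ (S j.succ) := by
        rw [← hpre]
        rfl
      refine K428.NBTop.quasiFiniteAt_of_isAffineOpen (ι ≫ φ) (hPaff j.succ) ?_ ?_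
      · rw [h1]
        exact hja
      · have h2 : y ∈ (ι ≫ φ) ⁻¹ᵁ Dp r k j.succ := by rw [h1]; exact hj
        exact h2

end K428.NBMor
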