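import Groth.Agent.Variety.K428.Reg
import Groth.Agent.Sga67.CMReg
import Groth.Agent.CohqA.SerreTop3
import Groth.Agent.Sga2.PnGoodDual
import Groth.Agent.VBPn.K700.HDim
import Groth.Agent.AdjLin.K800.HomDim
import Groth.Agent.VarietyB.KoszulShift
import Groth.Agent.S0843
import Groth.Agent.S0002
import Mathlib.CategoryTheory.Limits.Constructions.FiniteProductsOfBinaryProducts

/-!
# Horrocks' criterion: sums of twists on projective space
-/

set_option autoImplicit false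
universe u
open CategoryTheory CategoryTheory.Limits AlgebraicGeometry TopologicalSpace

namespace K428.Horrocks

open Groth.Agent Groth.Agent.Gaga.H883.Serre
open Groth.Agent.Sga67.SerreVB (tw)

variable {n : ℕ} {k : Type u} [Field k]

/-- Finite direct sums of twists. -/
def IsSum (E : (CohB1.ProjSpace n k).Modules) : Prop :=
  ∃ (r : ℕ) (m : Fin r → ℤ), Nonempty (E ≅ ∐ fun i => Twist.twistProjSpace n k (m i))

theorem isSum_of_isZero {E : (CohB1.ProjSpace n k).Modules} (h : IsZero E) : IsSum E := by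
  refine ⟨0, Fin.elim0, ⟨h.iso ?_⟩⟩
  rw [IsZero.iff_id_eq_zero]
  exact Sigma.hom_ext _ _ fun i => i.elim0

theorem nonempty_sum_succ {C : Type*} [Category C] [Preadditive C] [HasBinaryBiproducts C] {r : ℕ}
    [HasFiniteCoproducts C] (g : Fin (r + 1) → C) :
    Nonempty (g 0 ⊞ (∐ fun i : Fin r => g i.succ) ≅ ∐ g) :=
  ⟨(extendCofanIsColimit g (coproductIsCoproduct (fun i : Fin r => g i.succ))
    (BinaryBiproduct.isColimit (g 0) (∐ fun i : Fin r => g i.succ))).coconePointUniqueUpToIso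
      (coproductIsCoproduct g)⟩

theorem IsSum.cons {E E' : (CohB1.ProjSpace n k).Modules} (a : ℤ) (h : IsSum E')
    (e : E ≅ Twist.twistProjSpace n k a ⊞ E') : IsSum E := by
  obtain ⟨r, m, ⟨f⟩⟩ := h
  have : HasFiniteBiproducts (CohB1.ProjSpace n k).Modules := Abelian.hasFiniteBiproducts
  obtain ⟨g⟩ := nonempty_sum_succ (fun i : Fin (r + 1) =>
    Twist.twistProjSpace n k ((Fin.cons a m : Fin (r + 1) → ℤ) i))
  exact ⟨r + 1, Fin.cons a m, ⟨e ≪≫ biprod.mapIso (Iso.refl _) f ≪≫ g⟩⟩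

/-- A non-zero top cohomology group gives a non-zero morphism to `O(-n-1)`. -/
theorem exists_hom_of_top {G : (CohB1.ProjSpace n k).Modules} (hG : Coh.IsCoh G)
    (h : ¬ Subsingleton (Coh.HH (CohB1.ProjSpace n k) G n)) :
    ∃ φ : G ⟶ Twist.twistProjSpace n k (-((n : ℤ) + 1)), φ ≠ 0 := by
  have hone := Groth.Agent.CohqA.SerreTop2.finrank_om k n
  have hfin := Module.finite_of_finrank_eq_succ hone
  let tr : (Groth.Agent.Sga2.PnHHDelta.hF k (CohB1.ProjSpace n k) n).obj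
        (Twist.twistProjSpace n k (-((n : ℤ) + 1))) →ₗ[k] k :=
    ((LinearEquiv.ofFinrankEq _ _ (hone.trans (Module.finrank_self k).symm) :
      (Groth.Agent.Sga2.PnHHDelta.hF k (CohB1.ProjSpace n k) n).obj
        (Twist.twistProjSpace n k (-((n : ℤ) + 1))) ≃ₗ[k] k)).toLinearMap
  have hdual : Groth.Agent.Sga2.PnKey.IsDual (Groth.Agent.Sga2.PnHHDelta.hF k (CohB1.ProjSpace n k) n) tr G :=
    Groth.Agent.Sga2.PnGoodDual.isDual_of_good _ (Groth.Agent.CohqA.SerreTop3.good_of_isCoh k n G hG)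
  by_contra hcon
  push Not at hcon
  apply h
  have key : ∀ x : (Groth.Agent.Sga2.PnHHDelta.hF k (CohB1.ProjSpace n k) n).obj G, x = 0 := by
    intro x
    rw [← Module.forall_dual_apply_eq_zero_iff k x]
    intro ψ
    obtain ⟨φ, hφ, -⟩ := hdual ψ
    rw [hφ x, hcon φ, Functor.map_zero]
    exact map_zero tr
  exact ⟨fun a b => (key a).trans (key b).symm⟩

/-- Global sections of a sheaf of modules are determined by their value on the whole space. -/
theorem sections_ext {X : Scheme.{u}} {F : X.Modules} (a b : SheafOfModules.sections (R := X.ringCatSheaf) F)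
    (h : a.val (.op ⊤) = b.val (.op ⊤)) : a = b := by
  apply PresheafOfModules.sections_ext
  intro U
  have e1 := PresheafOfModules.sections_property a (homOfLE (le_top (a := U.unop))).op
  have e2 := PresheafOfModules.sections_property b (homOfLE (le_top (a := U.unop))).op
  refine e1.symm.trans (Eq.trans ?_ e2)
  exact congrArg _ h

theorem gg_hom {X : Scheme.{u}} {F N : X.Modules} (hF : Curv2.IsGloballyGenerated F) (ψ : F ⟶ N) (h : ψ ≠ 0) :
    ∃ s : Coh.structureModule X ⟶ F, s ≫ ψ ≠ 0 := by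
  obtain ⟨I, p, hp⟩ := hF
  by_contra hcon
  push Not at hcon
  apply h
  refine (cancel_epi p).1 ?_
  apply (SheafOfModules.freeHomEquiv (R := X.ringCatSheaf) N).injective
  funext i
  apply sections_ext
  let w : Γ(F, ⊤) := (SheafOfModules.freeHomEquiv (R := X.ringCatSheaf) F p i).val (.op ⊤)
  have h1 := congrArg (fun z => Groth.Agent.Fdesc.LocGen.sec z ⊤) (hcon (Groth.Agent.Fdesc.LocGen.homOf w))
  have h2 : Groth.Agent.Fdesc.LocGen.sec (Groth.Agent.Fdesc.LocGen.homOf w ≫ ψ) ⊤ = ψ.app ⊤ w := by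
    change ψ.app ⊤ (Groth.Agent.Fdesc.LocGen.sec (Groth.Agent.Fdesc.LocGen.homOf w) ⊤) = _
    rw [Groth.Agent.Fdesc.LocGen.sec_homOf, Groth.Agent.Fdesc.LocGen.res_refl]
  exact h2.symm.trans h1

theorem tw_map_ne_zero {A B : (CohB1.ProjSpace n k).Modules} (φ : A ⟶ B) (h : φ ≠ 0) (d : ℤ) :
    (tw n k d).map φ ≠ 0 := by
  intro h0
  apply h
  have h1 : Epi ((tw n k d).map (Abelian.factorThruImage φ)) :=
    (shortExact_tw n k d (K428.Reg.sesKer_shortExact φ)).epi_g
  have h2 : Mono ((tw n k d).map (Abelian.image.ι φ)) :=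
    (shortExact_tw n k d (K428.Reg.sesCok_shortExact φ)).mono_f
  have h3 : (tw n k d).map (Abelian.factorThruImage φ) ≫ (tw n k d).map (Abelian.image.ι φ) = 0 := by
    rw [← Functor.map_comp, Abelian.image.fac, h0]
  have h4 : (tw n k d).map (Abelian.image.ι φ) = 0 := by
    rwa [← cancel_epi ((tw n k d).map (Abelian.factorThruImage φ)), comp_zero]
  have h5 : IsZero ((tw n k d).obj (Abelian.image φ)) := by
    rw [IsZero.iff_id_eq_zero, ← cancel_mono ((tw n k d).map (Abelian.image.ι φ)), h4, comp_zero, zero_comp]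
  have h6 : IsZero ((tw n k (-d)).obj ((tw n k d).obj (Abelian.image φ))) := by
    rw [IsZero.iff_id_eq_zero] at h5 ⊢
    rw [← CategoryTheory.Functor.map_id, h5, Functor.map_zero]
  obtain ⟨e⟩ := tw_tw n k d (-d) (Abelian.image φ)
  rw [add_neg_cancel] at e
  obtain ⟨e'⟩ := tw_zero n k (Abelian.image φ)
  have h7 : IsZero (Abelian.image φ) := h6.of_iso (e ≪≫ e').symm
  rw [← Abelian.image.fac φ, h7.eq_of_tgt (Abelian.factorThruImage φ) 0, zero_comp]

section End

attribute [local instance] Groth.Agent.CurvesC.LinMod.linearModules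

variable (n k)

theorem finrank_HO : Module.finrank k (Coh.HH (CohB1.ProjSpace n k) (Twist.twistProjSpace n k 0) 0) = 1 := by
  obtain ⟨e⟩ := Groth.Agent.S0843.result k n 0
  have h1 := e.finrank_eq
  have h2 : ((0 : ℕ) : ℤ) = 0 := rfl
  rw [h2] at h1
  rw [h1, MvPolynomial.homogeneousSubmodule_zero, finrank_eq_one_iff']
  refine ⟨⟨1, Submodule.mem_one.2 ⟨1, map_one _⟩⟩, fun h => one_ne_zero (congrArg Subtype.val h), fun w => ?_⟩
  obtain ⟨c, hc⟩ := Submodule.mem_one.1 w.2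
  refine ⟨c, Subtype.ext ?_⟩
  change c • (1 : MvPolynomial (Fin (n + 1)) k) = w.1
  rw [← hc, Algebra.algebraMap_eq_smul_one]

theorem isIso_of_ne_zero (φ : Coh.structureModule (CohB1.ProjSpace n k) ⟶ Coh.structureModule (CohB1.ProjSpace n k))
    (h : φ ≠ 0) : IsIso φ := by
  obtain ⟨e⟩ := O_zero n k
  have h1 : Module.finrank k (Coh.structureModule (CohB1.ProjSpace n k) ⟶
      Coh.structureModule (CohB1.ProjSpace n k)) = 1 := by
    rw [(K800.HomDim.secHom k (Coh.structureModule (CohB1.ProjSpace n k))).finrank_eq]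
    exact (K700.HDim.fr_iso k e 0).symm.trans (finrank_HO n k)
  have hne : (𝟙 (Coh.structureModule (CohB1.ProjSpace n k))) ≠ 0 := by
    intro h0
    apply h
    rw [← Category.comp_id φ, h0, comp_zero]
  obtain ⟨c, hc⟩ := (finrank_eq_one_iff_of_nonzero' _ hne).1 h1 φ
  have hc0 : c ≠ 0 := by
    rintro rfl
    apply h
    rw [← hc, zero_smul]
  refine ⟨c⁻¹ • 𝟙 _, ?_, ?_⟩
  · rw [← hc, Linear.smul_comp, Linear.comp_smul, Category.comp_id, smul_smul, mul_inv_cancel₀ hc0, one_smul]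
  · rw [← hc, Linear.smul_comp, Linear.comp_smul, Category.comp_id, smul_smul, inv_mul_cancel₀ hc0, one_smul]

theorem ne_zero_iff_nontrivial {F : (CohB1.ProjSpace n k).Modules} (s : Coh.structureModule (CohB1.ProjSpace n k) ⟶ F)
    (h : s ≠ 0) : ¬ Subsingleton (Coh.HH (CohB1.ProjSpace n k) F 0) := by
  intro h1
  have h2 : Subsingleton (Coh.structureModule (CohB1.ProjSpace n k) ⟶ F) :=
    (K800.HomDim.secHom k F).toEquiv.subsingleton
  exact h (Subsingleton.elim _ _)

end End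

/-- A globally generated module with a non-zero morphism to `O` has `O` as a direct summand. -/
theorem exists_split {F : (CohB1.ProjSpace n k).Modules} (hc : Coh.IsCoh F) (hF : Curv2.IsGloballyGenerated F)
    (ψ : F ⟶ Coh.structureModule (CohB1.ProjSpace n k)) (h : ψ ≠ 0) :
    ∃ C : (CohB1.ProjSpace n k).Modules, Coh.IsCoh C ∧
      Nonempty (F ≅ Coh.structureModule (CohB1.ProjSpace n k) ⊞ C) := by
  have := isNoetherian_projSpace n k
  obtain ⟨s, hs⟩ := gg_hom hF ψ h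
  have hiso := isIso_of_ne_zero n k _ hs
  have hr : s ≫ (ψ ≫ inv (s ≫ ψ)) = 𝟙 _ := by
    rw [← Category.assoc, IsIso.hom_inv_id]
  have hm : Mono s := (SplitMono.mk _ hr).mono
  let S := ShortComplex.mk s (cokernel.π s) (cokernel.condition s)
  have hS : S.Exact := ShortComplex.exact_cokernel s
  let sp := ShortComplex.Splitting.ofExactOfRetraction S hS (ψ ≫ inv (s ≫ ψ)) hr
    (inferInstanceAs (Epi (cokernel.π s)))
  have hO : Coh.IsCoh (Coh.structureModule (CohB1.ProjSpace n k)) := by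
    obtain ⟨e⟩ := O_zero n k
    exact Groth.Agent.Sga67.CohBasic.isCoh_of_iso e (isCoh_O n k 0)
  exact ⟨cokernel s, Groth.Agent.Sga67.CohBasic.isCoh_cokernel s hO.1 hc, ⟨sp.isoBinaryBiproduct⟩⟩

/-- The vanishing conditions. -/
def Van (E : (CohB1.ProjSpace n k).Modules) : Prop :=
  (∃ m₀ : ℤ, ∀ m : ℤ, m ≤ m₀ →
      Subsingleton (Coh.HH (CohB1.ProjSpace n k) (CohB1.tensorMod E (Twist.twistProjSpace n k m)) 0)) ∧
    ∀ (m : ℤ) (i : ℕ), 0 < i → i < n →
      Subsingleton (Coh.HH (CohB1.ProjSpace n k) (CohB1.tensorMod E (Twist.twistProjSpace n k m)) i)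

/-- Vanishing of cohomology of a retract. -/
theorem retract_HH {E E' : (CohB1.ProjSpace n k).Modules} (i : E' ⟶ E) (s : E ⟶ E') (w : i ≫ s = 𝟙 E') (m : ℤ) (q : ℕ)
    (h : Subsingleton (Coh.HH (CohB1.ProjSpace n k) (CohB1.tensorMod E (Twist.twistProjSpace n k m)) q)) :
    Subsingleton (Coh.HH (CohB1.ProjSpace n k) (CohB1.tensorMod E' (Twist.twistProjSpace n k m)) q) :=
  Groth.Agent.VarietyB.KoszulShift.subsingleton_of_retract ((tw n k m).map i) ((tw n k m).map s)
    (by rw [← Functor.map_comp, w, CategoryTheory.Functor.map_id]) q h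

theorem Van.retract {E E' : (CohB1.ProjSpace n k).Modules} (h : Van E) (i : E' ⟶ E) (s : E ⟶ E') (w : i ≫ s = 𝟙 E') :
    Van E' := by
  obtain ⟨⟨m₀, h0⟩, h1⟩ := h
  exact ⟨⟨m₀, fun m hm => retract_HH i s w m 0 (h0 m hm)⟩, fun m q h2 h3 => retract_HH i s w m q (h1 m q h2 h3)⟩

open Groth.Agent.Sga67.CMReg in
theorem exists_min {E : (CohB1.ProjSpace n k).Modules} (hE : Coh.IsCoh E) (hV : Van E) (hne : ¬ IsZero E) :
    ∃ m : ℤ, Reg E m ∧ ¬ Reg E (m - 1) := by
  obtain ⟨⟨m₀, h0⟩, -⟩ := hV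
  obtain ⟨m₁, h1⟩ := serre n k hE
  have hreg : Reg E (m₁ + n) := fun q hq hqn => h1 _ (by omega) q hq
  have hbd : ∀ z : ℤ, Reg E z → m₀ ≤ z := by
    intro z hz
    by_contra hlt
    push Not at hlt
    apply hne
    have hgg := Groth.Agent.Sga67.CMReg.isGloballyGenerated hE.1 hz m₀ hlt.le
    have h2 : IsZero (CohB1.tensorMod E (Twist.twistProjSpace n k m₀)) := by
      by_contra hnz
      have h3 : (𝟙 (CohB1.tensorMod E (Twist.twistProjSpace n k m₀))) ≠ 0 := fun h =>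
        hnz ((IsZero.iff_id_eq_zero _).2 h)
      obtain ⟨s, hs⟩ := gg_hom hgg _ h3
      rw [Category.comp_id] at hs
      exact ne_zero_iff_nontrivial n k s hs (h0 m₀ le_rfl)
    have h4 : IsZero ((tw n k (-m₀)).obj (CohB1.tensorMod E (Twist.twistProjSpace n k m₀))) := by
      rw [IsZero.iff_id_eq_zero] at h2 ⊢
      rw [← CategoryTheory.Functor.map_id, h2, Functor.map_zero]
    obtain ⟨e⟩ := tw_tw n k m₀ (-m₀) E
    rw [add_neg_cancel] at e
    obtain ⟨e'⟩ := tw_zero n k E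
    exact h4.of_iso (e ≪≫ e').symm
  obtain ⟨m, hm, hmin⟩ := Int.exists_least_of_bdd (P := fun z => Reg E z) ⟨m₀, hbd⟩ ⟨_, hreg⟩
  exact ⟨m, hm, fun h => by have := hmin _ h; omega⟩

open Groth.Agent.Sga67.CMReg in
/-- The inductive step: split off a twist. -/
theorem exists_step (hn : 1 ≤ n) {E : (CohB1.ProjSpace n k).Modules} (hE : Coh.IsCoh E) (hV : Van E) (hne : ¬ IsZero E) :
    ∃ (m : ℤ) (E' : (CohB1.ProjSpace n k).Modules), Reg E m ∧ ¬ Reg E (m - 1) ∧ Coh.IsCoh E' ∧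
      Nonempty (E ≅ Twist.twistProjSpace n k (-m) ⊞ E') := by
  obtain ⟨m, hm, hm'⟩ := exists_min hE hV hne
  have htop : ¬ Subsingleton (Coh.HH (CohB1.ProjSpace n k)
      (CohB1.tensorMod E (Twist.twistProjSpace n k (m - 1 - n))) n) := by
    intro h
    apply hm'
    intro q hq hqn
    rcases hqn.lt_or_eq with hlt | rfl
    · exact hV.2 _ q (by omega) hlt
    · exact h
  obtain ⟨φ, hφ⟩ := exists_hom_of_top (isCoh_tw n k hE (m - 1 - n)) htop
  have hψ := tw_map_ne_zero φ hφ ((n : ℤ) + 1)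
  obtain ⟨e₁⟩ := tw_tw n k (m - 1 - n) ((n : ℤ) + 1) E
  have e₂ : m - 1 - n + ((n : ℤ) + 1) = m := by ring
  rw [e₂] at e₁
  obtain ⟨e₃⟩ := O_mul n k (-((n : ℤ) + 1)) ((n : ℤ) + 1)
  rw [neg_add_cancel] at e₃
  obtain ⟨e₀⟩ := O_zero n k
  let θ : (tw n k ((n : ℤ) + 1)).obj (Twist.twistProjSpace n k (-((n : ℤ) + 1))) ≅
      Coh.structureModule (CohB1.ProjSpace n k) := e₃ ≪≫ e₀
  let e₁' : (tw n k ((n : ℤ) + 1)).obj (CohB1.tensorMod E (Twist.twistProjSpace n k (m - 1 - n))) ≅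
      CohB1.tensorMod E (Twist.twistProjSpace n k m) := e₁
  let ψ : CohB1.tensorMod E (Twist.twistProjSpace n k m) ⟶ Coh.structureModule (CohB1.ProjSpace n k) :=
    e₁'.inv ≫ (tw n k ((n : ℤ) + 1)).map φ ≫ θ.hom
  have hψ0 : ψ ≠ 0 := by
    intro h
    apply hψ
    have h1 := congrArg (fun z => e₁'.hom ≫ z ≫ θ.inv) h
    simpa only [ψ, Category.assoc, Iso.hom_inv_id_assoc, Iso.hom_inv_id, Category.comp_id, zero_comp, comp_zero]
      using h1
  obtain ⟨C, hC, ⟨g⟩⟩ := exists_split (isCoh_tw n k hE m)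
    (Groth.Agent.Sga67.CMReg.isGloballyGenerated hE.1 hm m le_rfl) ψ hψ0
  refine ⟨m, (tw n k (-m)).obj C, hm, hm', isCoh_tw n k hC (-m), ?_⟩
  obtain ⟨f₁⟩ := tw_tw n k m (-m) E
  rw [add_neg_cancel] at f₁
  obtain ⟨f₂⟩ := tw_zero n k E
  have : PreservesBinaryBiproducts (tw n k (-m)) := preservesBinaryBiproducts_of_preservesBiproducts _
  obtain ⟨f₃⟩ := O_mul n k 0 (-m)
  rw [zero_add] at f₃
  exact ⟨f₂.symm ≪≫ f₁.symm ≪≫ (tw n k (-m)).mapIso g ≪≫ (tw n k (-m)).mapBiprod _ _ ≪≫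
    biprod.mapIso ((tw n k (-m)).mapIso e₀.symm ≪≫ f₃) (Iso.refl _)⟩

instance isProper_over : IsProper (CohB1.ProjSpace n k ↘ Spec (CommRingCat.of k)) :=
  Ega3B.ProjProper.isProper_toSpec n k

theorem finite_H (F : (CohB1.ProjSpace n k).Modules) (hF : Coh.IsCoh F) (q : ℕ) :
    Module.Finite k (Coh.HH (CohB1.ProjSpace n k) F q) := by
  have := isNoetherian_projSpace n k
  exact Groth.Agent.S0002.result k _ F hF q

theorem finrank_O_pos (d : ℤ) (hd : 0 ≤ d) :
    0 < Module.finrank k (Coh.HH (CohB1.ProjSpace n k) (Twist.twistProjSpace n k d) 0) := by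
  obtain ⟨c, rfl⟩ := Int.eq_ofNat_of_zero_le hd
  obtain ⟨e⟩ := Groth.Agent.S0843.result k n c
  have hfin := finite_H (Twist.twistProjSpace n k (c : ℤ)) (isCoh_O n k _) 0
  have h1 : Nontrivial (MvPolynomial.homogeneousSubmodule (Fin (n + 1)) k c) := by
    refine ⟨⟨⟨(MvPolynomial.X 0) ^ c, MvPolynomial.isHomogeneous_X_pow 0 c⟩, 0, fun h => ?_⟩⟩
    have h2 := congrArg Subtype.val h
    exact pow_ne_zero c (MvPolynomial.X_ne_zero (R := k) (0 : Fin (n + 1))) h2
  have h2 : Nontrivial (Coh.HH (CohB1.ProjSpace n k) (Twist.twistProjSpace n k (c : ℤ)) 0) :=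
    e.toEquiv.nontrivial
  exact Module.finrank_pos

open Groth.Agent.Sga67.CMReg in
theorem isSum_of_van (hn : 1 ≤ n) (M : ℤ) (d : ℕ) : ∀ (E : (CohB1.ProjSpace n k).Modules), Coh.IsCoh E → Van E →
    Reg E M → Module.finrank k (Coh.HH (CohB1.ProjSpace n k)
      (CohB1.tensorMod E (Twist.twistProjSpace n k M)) 0) = d → IsSum E := by
  induction d using Nat.strong_induction_on with
  | _ d ih =>
    intro E hE hV hM hd
    by_cases hne : IsZero E
    · exact isSum_of_isZero hne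
    obtain ⟨m, E', h1, h2, hE', ⟨e⟩⟩ := exists_step hn hE hV hne
    have hmM : m ≤ M := by
      by_contra hlt
      exact h2 (hM.mono hE.1 (by omega))
    have w : (biprod.inr ≫ e.inv) ≫ (e.hom ≫ biprod.snd) = 𝟙 E' := by
      rw [Category.assoc, Iso.inv_hom_id_assoc, biprod.inr_snd]
    have hR' : Reg E' M := fun q h3 h4 => retract_HH _ _ w _ q (hM q h3 h4)
    refine IsSum.cons (-m) (ih _ ?_ E' hE' (hV.retract _ _ w) hR' rfl) e
    have : PreservesBinaryBiproducts (tw n k M) := preservesBinaryBiproducts_of_preservesBiproducts _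
    obtain ⟨f⟩ := O_mul n k (-m) M
    let g : CohB1.tensorMod E (Twist.twistProjSpace n k M) ≅
        Twist.twistProjSpace n k (-m + M) ⊞ CohB1.tensorMod E' (Twist.twistProjSpace n k M) :=
      (tw n k M).mapIso e ≪≫ (tw n k M).mapBiprod _ _ ≪≫ biprod.mapIso f (Iso.refl _)
    have := finite_H _ (isCoh_O n k (-m + M)) 0
    have := finite_H _ (isCoh_tw n k hE' M) 0
    have h5 := (K700.HDim.fr_biprod k (F := Twist.twistProjSpace n k (-m + M))
      (G := CohB1.tensorMod E' (Twist.twistProjSpace n k M))).2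
    have h6 := K700.HDim.fr_iso k g 0
    have h7 := finrank_O_pos (n := n) (k := k) (-m + M) (by omega)
    change Module.finrank k _ = Module.finrank k _ at h6
    change Module.finrank k _ = Module.finrank k _ + Module.finrank k _ at h5
    omega

open Groth.Agent.Sga67.CMReg in
theorem isSum (hn : 1 ≤ n) (E : (CohB1.ProjSpace n k).Modules) (hE : Coh.IsCoh E) (hV : Van E) : IsSum E := by
  obtain ⟨m₁, h1⟩ := serre n k hE
  exact isSum_of_van hn (m₁ + n) _ E hE hV (fun q hq hqn => h1 _ (by omega) q hq) rfl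

theorem nonempty_tw_sum {r : ℕ} (m : Fin r → ℤ) (d : ℤ) :
    Nonempty (CohB1.tensorMod (∐ fun i => Twist.twistProjSpace n k (m i)) (Twist.twistProjSpace n k d) ≅
      ⨁ fun i => Twist.twistProjSpace n k (m i + d)) := by
  have : HasFiniteBiproducts (CohB1.ProjSpace n k).Modules := Abelian.hasFiniteBiproducts
  exact ⟨(tw n k d).mapIso (biproduct.isoCoproduct _).symm ≪≫ (tw n k d).mapBiproduct _ ≪≫
    biproduct.mapIso fun i => (O_mul n k (m i) d).some⟩

theorem van_of_isSum (hn : 1 ≤ n) {E : (CohB1.ProjSpace n k).Modules} (h : IsSum E) : Van E := by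
  obtain ⟨r, m, ⟨e⟩⟩ := h
  have key : ∀ (d : ℤ) (q : ℕ), (∀ i, Subsingleton (Coh.HH (CohB1.ProjSpace n k)
      (Twist.twistProjSpace n k (m i + d)) q)) → Subsingleton (Coh.HH (CohB1.ProjSpace n k)
        (CohB1.tensorMod E (Twist.twistProjSpace n k d)) q) := by
    intro d q h
    obtain ⟨f⟩ := nonempty_tw_sum (n := n) (k := k) m d
    exact HH_congr ((tw n k d).mapIso e ≪≫ f).symm q
      (CohqA.HBiprod.subsingleton_HH_biproduct _ q h)
  refine ⟨⟨-(∑ i, |m i|) - 1, fun d hd => key d 0 fun i => S0844.result k n _ 0 ?_ ?_⟩,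
    fun d q h1 h2 => key d q fun i => S0844.result k n _ q ?_ ?_⟩
  · rintro ⟨-, h⟩
    have h1 : m i ≤ |m i| := le_abs_self _
    have h2 : |m i| ≤ ∑ i, |m i| := Finset.single_le_sum (fun i _ => abs_nonneg (m i)) (Finset.mem_univ i)
    omega
  · rintro ⟨h, -⟩
    omega
  · rintro ⟨h, -⟩
    omega
  · rintro ⟨h, -⟩
    omega

end K428.Horrocks
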