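import Mathlib.AlgebraicGeometry.Morphisms.Proper
import Mathlib.AlgebraicGeometry.IdealSheaf.Functorial
import Mathlib.CategoryTheory.Functor.OfSequence
import Mathlib.FieldTheory.IsAlgClosed.Basic

/-!
# Global functions on connected proper schemes over an algebraically closed field, and their limits
-/

set_option autoImplicit false

universe u

open CategoryTheory CategoryTheory.Limits AlgebraicGeometry Opposite TopologicalSpace

namespace K428.FormalLoc

/-- A global function on a nonempty connected proper scheme over an algebraically closed field is a constant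
plus a nilpotent. -/
theorem exists_const (k : Type u) [Field k] [IsAlgClosed k] {Y : Scheme.{u}} (f : Y ⟶ Spec (CommRingCat.of k))
    [IsProper f] [ConnectedSpace Y] (a : Γ(Y, ⊤)) :
    ∃ c : k, IsNilpotent (a - f.appTop.hom ((Scheme.ΓSpecIso (CommRingCat.of k)).inv.hom c)) := by
  classical
  have hint := isIntegral_appTop_of_universallyClosed f
  haveI : CompactSpace Y := QuasiCompact.compactSpace_of_compactSpace f
  let φ : k →+* Γ(Y, ⊤) := f.appTop.hom.comp (Scheme.ΓSpecIso (CommRingCat.of k)).inv.hom
  have hφ : φ.IsIntegral := by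
    refine RingHom.IsIntegral.trans _ _ (RingHom.isIntegral_of_surjective _ ?_) hint
    exact (ConcreteCategory.bijective_of_isIso (Scheme.ΓSpecIso (CommRingCat.of k)).inv).2
  obtain ⟨p, hp, hpa⟩ := hφ a
  have hsp : p.Splits := IsAlgClosed.splits p
  obtain ⟨x₀⟩ := (inferInstance : Nonempty Y)
  -- the zero loci of the functions `a - c`
  have hV : ∀ c : k, IsClosed ((Y.basicOpen (a - φ c) : Set Y)ᶜ) := fun c =>
    (Y.basicOpen (a - φ c)).isOpen.isClosed_compl
  have hprod : ∀ s : Multiset k, ∀ x : Y, x ∉ Y.basicOpen ((s.map fun c => a - φ c).prod) →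
      ∃ c ∈ s, x ∉ Y.basicOpen (a - φ c) := by
    intro s
    induction s using Multiset.induction_on with
    | empty =>
      intro x hx
      rw [Multiset.map_zero, Multiset.prod_zero, Scheme.basicOpen_of_isUnit _ isUnit_one] at hx
      exact absurd trivial hx
    | cons c s ih =>
      intro x hx
      rw [Multiset.map_cons, Multiset.prod_cons, Scheme.basicOpen_mul] at hx
      by_cases h : x ∈ Y.basicOpen (a - φ c)
      · obtain ⟨c', hc', hx'⟩ := ih x fun h' => hx ⟨h, h'⟩
        exact ⟨c', Multiset.mem_cons_of_mem hc', hx'⟩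
      · exact ⟨c, Multiset.mem_cons_self c s, h⟩
  have hroot : (p.roots.map fun c => a - φ c).prod = 0 := by
    have h1 := hsp.eq_prod_roots_of_monic hp
    have h2 : Polynomial.eval₂ φ a (p.roots.map fun c => Polynomial.X - Polynomial.C c).prod =
        (p.roots.map fun c => a - φ c).prod := by
      rw [← Polynomial.coe_eval₂RingHom, map_multiset_prod, Multiset.map_map]
      congr 1
      refine Multiset.map_congr rfl fun c _ => ?_
      simp
    rw [← h2, ← h1]
    exact hpa
  have hcover : ∀ x : Y, ∃ c ∈ p.roots, x ∉ Y.basicOpen (a - φ c) := fun x =>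
    hprod _ x (by
      rw [hroot, Scheme.basicOpen_zero]
      exact fun h => h)
  obtain ⟨c, hc, hxc⟩ := hcover x₀
  refine ⟨c, ?_⟩
  change IsNilpotent (a - φ c)
  rw [Scheme.isNilpotent_iff_basicOpen_eq_bot]
  have hdisj : ∀ c' : k, c' ≠ c → ∀ x, x ∉ Y.basicOpen (a - φ c) → x ∈ Y.basicOpen (a - φ c') := by
    intro c' hc' x hx
    by_contra hx'
    have hu : IsUnit (φ (c - c')) := (IsUnit.mk0 _ (sub_ne_zero.mpr hc'.symm)).map φ
    have h1 : x ∈ Y.basicOpen (φ (c - c')) := by
      rw [Scheme.basicOpen_of_isUnit _ hu]; trivial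
    rw [Scheme.mem_basicOpen_top] at h1 hx hx'
    have h2 : φ (c - c') = (a - φ c') - (a - φ c) := by rw [map_sub]; ring
    rw [h2, map_sub] at h1
    rcases IsLocalRing.isUnit_or_isUnit_of_isUnit_add (a := Y.presheaf.Γgerm x (a - φ c'))
      (b := - Y.presheaf.Γgerm x (a - φ c)) (by rwa [← sub_eq_add_neg]) with h | h
    · exact hx' h
    · exact hx (by rwa [IsUnit.neg_iff] at h)
  have hclopen : IsClopen ((Y.basicOpen (a - φ c) : Set Y)ᶜ) := by
    refine ⟨hV c, ?_⟩
    have h1 : ((Y.basicOpen (a - φ c) : Set Y)ᶜ)ᶜ = ⋃ c' ∈ {c' : k | c' ∈ p.roots ∧ c' ≠ c},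
        ((Y.basicOpen (a - φ c') : Set Y)ᶜ) := by
      ext x
      simp only [compl_compl, Set.mem_iUnion, Set.mem_compl_iff, exists_prop]
      constructor
      · intro hx
        obtain ⟨c', hc', hx'⟩ := hcover x
        exact ⟨c', ⟨hc', fun e => hx' (e ▸ hx)⟩, hx'⟩
      · rintro ⟨c', ⟨_, hne⟩, hx'⟩
        by_contra hx
        exact hx' (hdisj c' hne x hx)
    have h2 : IsClosed (((Y.basicOpen (a - φ c) : Set Y)ᶜ)ᶜ) := by
      rw [h1]
      refine Set.Finite.isClosed_biUnion ?_ fun c' _ => hV c'
      refine Set.Finite.subset p.roots.toFinset.finite_toSet ?_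
      rintro c' ⟨h, _⟩
      simpa using h
    exact isClosed_compl_iff.mp h2
  have huniv := hclopen.eq_univ ⟨x₀, hxc⟩
  rw [Set.compl_univ_iff] at huniv
  exact TopologicalSpace.Opens.ext huniv

/-- An element of a limit of rings is a unit if all its components are. -/
theorem isUnit_of_limit {J : Type} [SmallCategory J] (F : J ⥤ CommRingCat.{u}) (a : ↑(limit F))
    (h : ∀ j, IsUnit ((limit.π F j).hom a)) : IsUnit a := by
  let S := Localization.Away a
  let l : ∀ j, S →+* F.obj j := fun j => IsLocalization.Away.lift a (h j)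
  have hl : ∀ j, (l j).comp (algebraMap (limit F : CommRingCat.{u}) S) = (limit.π F j).hom := fun j =>
    IsLocalization.Away.lift_comp a (h j)
  let c : Cone F :=
    { pt := CommRingCat.of S
      π := { app := fun j => CommRingCat.ofHom (l j)
             naturality := fun j j' f => by
              ext1
              change (l j').comp (RingHom.id _) = (F.map f).hom.comp (l j)
              rw [RingHom.comp_id]
              apply IsLocalization.ringHom_ext (Submonoid.powers a)
              rw [RingHom.comp_assoc, hl, hl, ← CommRingCat.hom_comp, limit.w] } }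
  have hid : CommRingCat.ofHom (algebraMap (limit F : CommRingCat.{u}) S) ≫ limit.lift F c = 𝟙 _ := by
    apply limit.hom_ext
    intro j
    rw [Category.assoc, limit.lift_π, Category.id_comp]
    ext1
    exact hl j
  have h1 : IsUnit (algebraMap (limit F : CommRingCat.{u}) S a) := IsLocalization.Away.algebraMap_isUnit a
  have h2 := h1.map (limit.lift F c).hom
  have h3 : (limit.lift F c).hom (algebraMap (limit F : CommRingCat.{u}) S a) = a :=
    congrArg (fun g : limit F ⟶ limit F => g.hom a) hid
  rwa [h3] at h2

end K428.FormalLoc
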