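import Groth.Agent.Variety.K428.NoethChain
import Mathlib.RingTheory.Polynomial.RationalRoot

/-!
# Noether normalization adapted to a chain of primes: existence, and extension of chains
-/

set_option autoImplicit false

universe u

namespace K428.NoethChain

open MvPolynomial

variable {k : Type u} [Field k]

/-- The contraction is computed by dimensions. -/
theorem comap_eq {A : Type u} [CommRing A] [Algebra k A] (q : Ideal A) [q.IsPrime] (d h : ℕ) (hh : h ≤ d)
    (hdim : ringKrullDim (A ⧸ q) = ((d - h : ℕ) : WithBot ℕ∞)) (φ : MvPolynomial (Fin d) k →ₐ[k] A)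
    (hint : φ.toRingHom.IsIntegral) (hmem : ∀ l : Fin d, (l : ℕ) < h → φ (X l) ∈ q) :
    q.comap φ = PI k d h := by
  symm
  have hle : PI k d h ≤ q.comap φ := by
    rw [Ideal.span_le]
    rintro _ ⟨l, hl, rfl⟩
    exact hmem l hl
  refine eq_of_le_of_dim hle (d - h) (ringKrullDim_PI d h hh) ?_
  rw [← hdim]
  symm
  let g : (MvPolynomial (Fin d) k ⧸ q.comap φ) →+* A ⧸ q := Ideal.quotientMap q φ.toRingHom le_rfl
  have hg : Function.Injective g := Ideal.quotientMap_injective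
  have hgi : g.IsIntegral := by
    apply RingHom.IsIntegral.tower_top (Ideal.Quotient.mk _)
    have h1 : g.comp (Ideal.Quotient.mk _) = (Ideal.Quotient.mk q).comp φ.toRingHom :=
      Ideal.quotientMap_comp_mk _
    rw [h1]
    exact hint.trans _ _ (RingHom.isIntegral_of_surjective _ Ideal.Quotient.mk_surjective)
  letI : Algebra (MvPolynomial (Fin d) k ⧸ q.comap φ) (A ⧸ q) := g.toAlgebra
  haveI : Algebra.IsIntegral (MvPolynomial (Fin d) k ⧸ q.comap φ) (A ⧸ q) := ⟨hgi⟩
  exact Groth.Agent.FlatA.DimFin.ringKrullDim_eq_of_isIntegral_of_injective _ (A ⧸ q) hg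

/-- The reindexing of the variables. -/
def rho (s t d : ℕ) (h : s + t = d) (l : Fin d) : Fin s ⊕ Fin t :=
  if hl : (l : ℕ) < t then Sum.inr ⟨t - 1 - l, by omega⟩ else Sum.inl ⟨l - t, by omega⟩

theorem rho_surjective (s t d : ℕ) (h : s + t = d) : Function.Surjective (rho s t d h) := by
  rintro (i | j)
  · refine ⟨⟨t + i, by omega⟩, ?_⟩
    simp [rho]
  · refine ⟨⟨t - 1 - j, by omega⟩, ?_⟩
    have h1 : t - 1 - (j : ℕ) < t := by omega
    simp only [rho, h1, dif_pos]
    congr 1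
    ext
    simp only
    omega

section Part1

variable {A : Type u} [CommRing A] [Algebra k A] (d : ℕ) (r : ℕ) (q : Fin r → PrimeSpectrum A)
    (h : Fin r → ℕ)

theorem exists_chain_aux [IsDomain A] [Algebra.FiniteType k A] (hd : ringKrullDim A = (d : WithBot ℕ∞))
    (hq : StrictMono q) (hh : ∀ i, h i ≤ d)
    (hdim : ∀ i, ringKrullDim (A ⧸ (q i).asIdeal) = ((d - h i : ℕ) : WithBot ℕ∞)) (m : ℕ) : m ≤ r →
    ∃ (s t : ℕ) (φ : MvPolynomial (Fin s ⊕ Fin t) k →ₐ[k] A) (y : ℕ → A), s + t = d ∧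
      φ.toRingHom.IsIntegral ∧ (∀ j : Fin t, φ (X (Sum.inr j)) = y (t - 1 - j)) ∧
      (∀ i : Fin r, (i : ℕ) < m → h i ≤ t ∧ ∀ j < h i, y j ∈ (q i).asIdeal) ∧
      (∀ i : Fin r, (i : ℕ) + 1 = m → ∀ j < t, y j ∈ (q i).asIdeal) ∧ (m = 0 → t = 0) := by
  induction m with
  | zero =>
    intro _
    obtain ⟨n, g, hg, hf, hn⟩ := Groth.Agent.FlatA.DimFin.exists_noether k A
    rw [hd] at hn
    have hn' : d = n := by exact_mod_cast hn
    subst hn'
    refine ⟨d, 0, g.comp (rename (Sum.elim id Fin.elim0)), fun _ => 0, rfl, ?_, fun j => Fin.elim0 j,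
      fun i hi => absurd hi (Nat.not_lt_zero _), fun i hi => absurd hi (Nat.succ_ne_zero _), fun _ => rfl⟩
    refine RingHom.IsIntegral.trans (rename (Sum.elim id Fin.elim0) : MvPolynomial (Fin d ⊕ Fin 0) k →ₐ[k] _).toRingHom
      g.toRingHom ?_ ?_
    · exact RingHom.isIntegral_of_surjective _ (rename_surjective _ (fun i => ⟨Sum.inl i, rfl⟩))
    · exact RingHom.Finite.to_isIntegral hf
  | succ m ih =>
    intro hm
    obtain ⟨s, t, φ, y, hst, hint, hy, h1, h2, h3⟩ := ih (by omega)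
    let i₁ : Fin r := ⟨m, hm⟩
    have hyq : ∀ j < t, y j ∈ (q i₁).asIdeal := by
      intro j hj
      rcases Nat.eq_zero_or_pos m with rfl | hm0
      · rw [h3 rfl] at hj
        exact absurd hj (Nat.not_lt_zero _)
      · let i₀ : Fin r := ⟨m - 1, by omega⟩
        have h4 := h2 i₀ (by simp only [i₀]; omega) j hj
        have h5 : q i₀ < q i₁ := hq (by simp only [i₀, i₁, Fin.lt_def]; omega)
        exact h5.le h4
    obtain ⟨s', t', φ', y', g1, g2, g3, g4, g5, g6, g7⟩ := exists_aux (q i₁).asIdeal s t φ hint y hy hyq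
    have hs' := dim_quotient (q i₁).asIdeal s' t' φ' g3 (fun j => by rw [g4]; exact g6 _ (by omega)) g7
    rw [hdim i₁] at hs'
    have hs'' : d - h i₁ = s' := by exact_mod_cast hs'
    have ht' : t' = h i₁ := by
      have := hh i₁
      omega
    refine ⟨s', t', φ', y', by omega, g3, g4, fun i hi => ?_, fun i hi j hj => ?_, fun h => by omega⟩
    · rcases Nat.lt_succ_iff_lt_or_eq.mp hi with hi | hi
      · obtain ⟨e1, e2⟩ := h1 i hi
        exact ⟨e1.trans g2, fun j hj => by rw [g5 j (by omega)]; exact e2 j hj⟩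
      · have : i = i₁ := Fin.ext hi
        subst this
        exact ⟨ht'.ge, fun j hj => g6 j (by omega)⟩
    · have : i = i₁ := Fin.ext (by simp only [i₁]; omega)
      subst this
      exact g6 j hj

theorem part1 [IsDomain A] [Algebra.FiniteType k A] (hd : ringKrullDim A = (d : WithBot ℕ∞))
    (hq : StrictMono q) (hh : ∀ i, h i ≤ d)
    (hdim : ∀ i, ringKrullDim (A ⧸ (q i).asIdeal) = ((d - h i : ℕ) : WithBot ℕ∞)) :
    ∃ φ : MvPolynomial (Fin d) k →ₐ[k] A, φ.toRingHom.Finite ∧ Function.Injective φ ∧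
      ∀ i, (q i).asIdeal.comap φ = PI k d (h i) := by
  obtain ⟨s, t, φ, y, hst, hint, hy, h1, -, -⟩ := exists_chain_aux (k := k) d r q h hd hq hh hdim r le_rfl
  let φ' : MvPolynomial (Fin d) k →ₐ[k] A := φ.comp (rename (rho s t d hst))
  have hint' : φ'.toRingHom.IsIntegral :=
    RingHom.IsIntegral.trans (rename (rho s t d hst) : MvPolynomial (Fin d) k →ₐ[k] _).toRingHom φ.toRingHom
      (RingHom.isIntegral_of_surjective _ (rename_surjective _ (rho_surjective s t d hst))) hint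
  have hφ' : ∀ l : Fin d, (l : ℕ) < t → φ' (X l) = y l := by
    intro l hl
    change φ (rename (rho s t d hst) (X l)) = _
    rw [rename_X]
    simp only [rho, hl, dif_pos]
    rw [hy]
    congr 1
    simp only
    omega
  refine ⟨φ', ?_, ?_, fun i => ?_⟩
  · apply hint'.to_finite
    apply RingHom.FiniteType.of_comp_finiteType (f := algebraMap k (MvPolynomial (Fin d) k))
    have e : φ'.toRingHom.comp (algebraMap k (MvPolynomial (Fin d) k)) = algebraMap k A := φ'.comp_algebraMap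
    have hft : (algebraMap k A).FiniteType := by
      rw [RingHom.finiteType_algebraMap]
      infer_instance
    rw [← e] at hft
    exact hft
  · have h0 : (⊥ : Ideal A).comap φ' = PI k d 0 := by
      refine comap_eq ⊥ d 0 (Nat.zero_le _) ?_ φ' hint' fun l hl => absurd hl (Nat.not_lt_zero _)
      rw [← ringKrullDim_eq_of_ringEquiv (RingEquiv.quotientBot A).symm, hd, Nat.sub_zero]
    rw [injective_iff_map_eq_zero]
    intro a ha
    have h2 : a ∈ (⊥ : Ideal A).comap φ' := ha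
    rw [h0] at h2
    have h3 : (X '' {l : Fin d | (l : ℕ) < 0} : Set (MvPolynomial (Fin d) k)) = ∅ := by
      rw [Set.image_eq_empty]
      ext l
      simp
    rw [PI, h3, Ideal.span_empty] at h2
    exact h2
  · exact comap_eq _ d (h i) (hh i) (hdim i) φ' hint' fun l hl => by
      obtain ⟨e1, e2⟩ := h1 i i.2
      rw [hφ' l (by omega)]
      exact e2 l hl

end Part1

section Part2

variable {A : Type u} [CommRing A] [Algebra k A] {d : ℕ}

theorem PI_mono {a b : ℕ} (h : a ≤ b) : PI k d a ≤ PI k d b :=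
  Ideal.span_mono (Set.image_mono fun _ hl => lt_of_lt_of_le hl h)

theorem X_notMem_PI (l : Fin d) (a : ℕ) (ha : a ≤ l) : (X l : MvPolynomial (Fin d) k) ∉ PI k d a := by
  rw [← ker_kill', RingHom.mem_ker]
  have hl : l ∉ {l : Fin d | (l : ℕ) < a} := by
    intro h
    exact absurd (show (l : ℕ) < a from h) (by omega)
  have : kill k d a (X l) = X ⟨l, hl⟩ := by
    rw [kill, aeval_X, dif_neg hl]
  rw [this]
  exact X_ne_zero _

/-- One step of going down over a given prime `q₀` with linear contraction. -/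
theorem step_down (φ : MvPolynomial (Fin d) k →ₐ[k] A) (hint : φ.toRingHom.IsIntegral) (q₀ : Ideal A) [q₀.IsPrime]
    (h₀ : ℕ) (hq₀ : q₀.comap φ = PI k d h₀) (j j' : ℕ) (hj : h₀ ≤ j) (hjj : j ≤ j') (Q : Ideal A) [Q.IsPrime] (hQ₀ : q₀ ≤ Q)
    (hQ : Q.comap φ = PI k d j') : ∃ Q' : Ideal A, Q'.IsPrime ∧ q₀ ≤ Q' ∧ Q' ≤ Q ∧ Q'.comap φ = PI k d j := by
  let R₀ := MvPolynomial ({l : Fin d | (l : ℕ) < h₀}ᶜ : Set (Fin d)) k
  let ι : R₀ →ₐ[k] MvPolynomial (Fin d) k := rename Subtype.val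
  let κ : MvPolynomial (Fin d) k →ₐ[k] R₀ := kill k d h₀
  have hκι : ∀ g, κ (ι g) = g := fun g => kill_rename _ g
  let B := A ⧸ q₀
  let ψ : R₀ →ₐ[k] B := (Ideal.Quotient.mkₐ k q₀).comp (φ.comp ι)
  have hιg : ∀ g, ι (κ g) - g ∈ PI k d h₀ := by
    intro g
    rw [← ker_kill', RingHom.mem_ker]
    change κ (ι (κ g) - g) = 0
    rw [map_sub, hκι, sub_self]
  have hcomp : ∀ g, ψ (κ g) = Ideal.Quotient.mk q₀ (φ g) := by
    intro g
    change Ideal.Quotient.mk q₀ (φ (ι (κ g))) = _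
    rw [Ideal.Quotient.eq, ← map_sub]
    have h1 : ι (κ g) - g ∈ q₀.comap φ := by rw [hq₀]; exact hιg g
    exact h1
  have hψinj : Function.Injective ψ := by
    rw [injective_iff_map_eq_zero]
    intro g hg
    have h1 : ι g ∈ q₀.comap φ := by
      rw [Ideal.mem_comap]
      exact Ideal.Quotient.eq_zero_iff_mem.mp hg
    rw [hq₀, ← ker_kill', RingHom.mem_ker] at h1
    rw [← hκι g]
    exact h1
  have hψint : ψ.toRingHom.IsIntegral := by
    apply RingHom.IsIntegral.tower_top κ.toRingHom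
    have h1 : ψ.toRingHom.comp κ.toRingHom = (Ideal.Quotient.mk q₀).comp φ.toRingHom :=
      RingHom.ext fun g => hcomp g
    rw [h1]
    exact hint.trans _ _ (RingHom.isIntegral_of_surjective _ Ideal.Quotient.mk_surjective)
  letI : Algebra R₀ B := ψ.toRingHom.toAlgebra
  haveI : Algebra.IsIntegral R₀ B := ⟨hψint⟩
  haveI : IsDomain B := inferInstanceAs (IsDomain (A ⧸ q₀))
  haveI : FaithfulSMul R₀ B := (faithfulSMul_iff_algebraMap_injective _ _).2 hψinj
  haveI : IsIntegrallyClosed R₀ := inferInstance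
  let Q1 : Ideal B := Q.map (Ideal.Quotient.mk q₀)
  have hQ1 : Q1.comap (Ideal.Quotient.mk q₀) = Q := by
    rw [Ideal.comap_map_of_surjective _ Ideal.Quotient.mk_surjective, ← RingHom.ker_eq_comap_bot, Ideal.mk_ker]
    exact sup_eq_left.mpr hQ₀
  haveI : Q1.IsPrime := Ideal.map_isPrime_of_surjective Ideal.Quotient.mk_surjective (by rw [Ideal.mk_ker]; exact hQ₀)
  let p : Ideal R₀ := (PI k d j).comap ι
  haveI : p.IsPrime := Ideal.comap_isPrime _ _
  have hle : p ≤ Q1.under R₀ := by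
    intro g hg
    change ψ g ∈ Q1
    have h1 : ι g ∈ Q.comap φ := by rw [hQ]; exact PI_mono hjj hg
    exact Ideal.mem_map_of_mem _ (show φ (ι g) ∈ Q from h1)
  obtain ⟨P', hP', hP'p, hP'o⟩ := Ideal.exists_ideal_le_liesOver_of_le (p := p) (q := Q1.under R₀) Q1 hle
  have hP'c : P'.comap ψ = p := hP'o.over.symm
  refine ⟨P'.comap (Ideal.Quotient.mk q₀), Ideal.comap_isPrime _ _, ?_, ?_, ?_⟩
  · intro a ha
    rw [Ideal.mem_comap, Ideal.Quotient.eq_zero_iff_mem.mpr ha]
    exact P'.zero_mem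
  · rw [← hQ1]
    exact Ideal.comap_mono hP'
  · ext g
    rw [Ideal.mem_comap, Ideal.mem_comap, ← hcomp]
    have h1 : ψ (κ g) ∈ P' ↔ κ g ∈ p := by rw [← hP'c]; rfl
    rw [h1]
    change ι (κ g) ∈ PI k d j ↔ _
    have h2 : ι (κ g) - g ∈ PI k d j := PI_mono hj (hιg g)
    constructor
    · intro h3
      have := Ideal.sub_mem _ h3 h2
      rwa [sub_sub_cancel] at this
    · intro h3
      have := Ideal.add_mem _ h2 h3
      rwa [sub_add_cancel] at this

variable (r : ℕ) (q : Fin r → PrimeSpectrum A) (h : Fin r → ℕ)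

theorem exists_q₀ (φ : MvPolynomial (Fin d) k →ₐ[k] A) [IsDomain A] (hinj : Function.Injective φ)
    (hq : StrictMono q) (hcom : ∀ i, (q i).asIdeal.comap φ = PI k d (h i)) (j : ℕ) :
    ∃ (q₀ : Ideal A) (h₀ : ℕ), q₀.IsPrime ∧ q₀.comap φ = PI k d h₀ ∧ h₀ ≤ j ∧
      (∀ i, h i ≤ j → (q i).asIdeal ≤ q₀) ∧ (q₀ = ⊥ ∨ ∃ i, h i ≤ j ∧ q₀ = (q i).asIdeal) := by
  classical
  let S : Finset (Fin r) := Finset.univ.filter fun i => h i ≤ j
  by_cases hS : S.Nonempty
  · let i₀ := S.max' hS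
    have hi₀ : h i₀ ≤ j := (Finset.mem_filter.mp (S.max'_mem hS)).2
    refine ⟨(q i₀).asIdeal, h i₀, (q i₀).2, hcom i₀, hi₀, fun i hi => ?_, Or.inr ⟨i₀, hi₀, rfl⟩⟩
    have h1 : i ≤ i₀ := S.le_max' i (Finset.mem_filter.mpr ⟨Finset.mem_univ _, hi⟩)
    exact hq.monotone h1
  · refine ⟨⊥, 0, Ideal.isPrime_bot, ?_, Nat.zero_le _, fun i hi => ?_, Or.inl rfl⟩
    · have h3 : (X '' {l : Fin d | (l : ℕ) < 0} : Set (MvPolynomial (Fin d) k)) = ∅ := by
        rw [Set.image_eq_empty]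
        ext l
        simp
      rw [PI, h3, Ideal.span_empty]
      exact (RingHom.injective_iff_ker_eq_bot φ.toRingHom).mp hinj
    · exact absurd ⟨i, Finset.mem_filter.mpr ⟨Finset.mem_univ _, hi⟩⟩ hS

theorem part2 [IsDomain A] (hq : StrictMono q) (hh : ∀ i, h i ≤ d) (φ : MvPolynomial (Fin d) k →ₐ[k] A)
    (hfin : φ.toRingHom.Finite) (hinj : Function.Injective φ) (hcom : ∀ i, (q i).asIdeal.comap φ = PI k d (h i)) :
    ∃ Q : ℕ → PrimeSpectrum A,
        (∀ j, j ≤ d → (Q j).asIdeal.comap φ = PI k d j) ∧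
        (∀ j, j < d → Q j < Q (j + 1)) ∧ (∀ i, Q (h i) = q i) := by
  have hint : φ.toRingHom.IsIntegral := RingHom.Finite.to_isIntegral hfin
  letI : Algebra (MvPolynomial (Fin d) k) A := φ.toRingHom.toAlgebra
  haveI : Algebra.IsIntegral (MvPolynomial (Fin d) k) A := ⟨hint⟩
  have main : ∀ m : ℕ, m ≤ d → ∃ Q : ℕ → PrimeSpectrum A, ∀ j, d - m ≤ j → j ≤ d →
      (Q j).asIdeal.comap φ = PI k d j ∧ (∀ i, h i ≤ j → (q i).asIdeal ≤ (Q j).asIdeal) ∧
      (j < d → (Q j).asIdeal ≤ (Q (j + 1)).asIdeal) := by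
    intro m
    induction m with
    | zero =>
      intro _
      obtain ⟨q₀, h₀, hp, hc, hle, hi, -⟩ := exists_q₀ r q h φ hinj hq hcom d
      obtain ⟨Q, hQ, hQp, hQc⟩ := Ideal.exists_ideal_over_prime_of_isIntegral (PI k d d) q₀
        (show q₀.comap φ ≤ _ by rw [hc]; exact PI_mono hle)
      refine ⟨fun _ => ⟨Q, hQp⟩, fun j hj1 hj2 => ?_⟩
      obtain rfl : j = d := by omega
      exact ⟨hQc, fun i hi' => (hi i hi').trans hQ, fun h => absurd h (lt_irrefl _)⟩
    | succ m ih =>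
      intro hm
      obtain ⟨Q, hQ⟩ := ih (by omega)
      obtain ⟨e1, e2, e3⟩ := hQ (d - m) le_rfl (by omega)
      obtain ⟨q₀, h₀, hp, hc, hle, hi, hor⟩ := exists_q₀ r q h φ hinj hq hcom (d - (m + 1))
      have hq₀Q : q₀ ≤ (Q (d - m)).asIdeal := by
        rcases hor with rfl | ⟨i, hi', rfl⟩
        · exact bot_le
        · exact e2 i (by omega)
      obtain ⟨Q', f1, f2, f3, f4⟩ := step_down φ hint q₀ h₀ hc (d - (m + 1)) (d - m) hle (by omega)
        (Q (d - m)).asIdeal hq₀Q e1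
      refine ⟨Function.update Q (d - (m + 1)) ⟨Q', f1⟩, fun j hj1 hj2 => ?_⟩
      by_cases hj : j = d - (m + 1)
      · subst hj
        rw [Function.update_self]
        refine ⟨f4, fun i hi' => (hi i hi').trans f2, fun _ => ?_⟩
        rw [Function.update_of_ne (by omega)]
        have : d - (m + 1) + 1 = d - m := by omega
        rw [this]
        exact f3
      · rw [Function.update_of_ne hj, Function.update_of_ne (by omega)]
        exact hQ j (by omega) hj2
  obtain ⟨Q, hQ⟩ := main d le_rfl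
  refine ⟨Q, fun j hj => (hQ j (by omega) hj).1, fun j hj => ?_, fun i => ?_⟩
  · refine lt_of_le_of_ne ((hQ j (by omega) hj.le).2.2 hj) fun e => ?_
    have h1 := (hQ j (by omega) hj.le).1
    have h2 := (hQ (j + 1) (by omega) hj).1
    rw [e, h2] at h1
    have h3 : (X ⟨j, hj⟩ : MvPolynomial (Fin d) k) ∈ PI k d (j + 1) :=
      Ideal.subset_span ⟨⟨j, hj⟩, Nat.lt_succ_self j, rfl⟩
    rw [h1] at h3
    exact X_notMem_PI ⟨j, hj⟩ j le_rfl h3
  · obtain ⟨e1, e2, -⟩ := hQ (h i) (by omega) (hh i)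
    have h1 := e2 i le_rfl
    by_contra hne
    have hlt : (q i).asIdeal < (Q (h i)).asIdeal :=
      lt_of_le_of_ne h1 fun e => hne (PrimeSpectrum.ext e.symm)
    have h2 := Ideal.IsIntegral.comap_lt_comap (R := MvPolynomial (Fin d) k) hlt
    have h3 : (q i).asIdeal.comap (algebraMap (MvPolynomial (Fin d) k) A) =
        (Q (h i)).asIdeal.comap (algebraMap (MvPolynomial (Fin d) k) A) :=
      (hcom i).trans e1.symm
    rw [h3] at h2
    exact lt_irrefl _ h2

end Part2

end K428.NoethChain
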