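import Groth.Agent.Ega2.H298.ProjExt
import Groth.Agent.RedSub.K861.ProjSec
import Groth.Agent.Ega1.GlobGenPt
import Groth.Agent.Ega2.ImmCrit
import Groth.Agent.Ega2.SecCalc
import Groth.Prelude.Def_ProjUP

/-!
# Morphisms to projective space given by sections of an invertible module, on the loci of linear forms

* `frac_lin`: the ratio of a linear form by a coordinate.
* `sec_pull_lin`: `φ^* (Σ c_j T_j) = Σ c_j φ^* T_j`.
* `rs`: the restriction to an open `U` of a global section, as a global section over `U`.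
* `app_surjective`: if the pullback of `ℓ` is `v|_U` with `X_v = V ≤ U` and the ring of functions on `V` is generated
  over `k` by functions `c` such that `c • v` is the pullback of a linear form, then `φ^#` is surjective over `D_+(ℓ)`.
-/

set_option autoImplicit false
universe u
open CategoryTheory CategoryTheory.Limits AlgebraicGeometry TopologicalSpace Opposite HomogeneousLocalization
open Groth.Agent.Fdesc.LocGen
open Groth.Agent.VarietyB Groth.Agent.VarietyB.ProjHom Groth.Agent.VarietyB.ProjGlue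
open Groth.Agent.Ega2.H298.ProjRatio Groth.Agent.Ega2.H298.ProjExt
open K861.ProjSec

namespace K428.KerProj

section frac

variable {A : Type u} [CommRing A] {S : Type u} [CommRing S] [Algebra A S] (𝒮 : ℕ → Submodule A S)
  [GradedAlgebra 𝒮]

theorem val_frac (f g : 𝒮 1) : (frac 𝒮 f g).val =
    algebraMap S (Localization.Away f.1) g.1 * Localization.mk 1 ⟨f.1, Submonoid.mem_powers f.1⟩ := by
  rw [frac, Away.val_mk, ← Localization.mk_one_eq_algebraMap, Localization.mk_mul]
  congr 1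
  · rw [mul_one]
  · ext; simp

theorem frac_add (f g h : 𝒮 1) : frac 𝒮 f (g + h) = frac 𝒮 f g + frac 𝒮 f h := by
  apply val_injective
  rw [val_add, val_frac, val_frac, val_frac, ← add_mul, ← map_add]
  rfl

theorem frac_smul (f g : 𝒮 1) (a : A) :
    frac 𝒮 f (a • g) = fromZeroRingHom 𝒮 _ (algebraMap A (𝒮 0) a) * frac 𝒮 f g := by
  apply val_injective
  rw [val_mul, val_frac, val_frac, ← mul_assoc]
  congr 1
  have h1 : (fromZeroRingHom 𝒮 (Submonoid.powers f.1) (algebraMap A (𝒮 0) a)).val =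
      algebraMap S (Localization.Away f.1) (algebraMap A S a) := by
    change (HomogeneousLocalization.mk _).val = _
    rw [HomogeneousLocalization.val_mk]
    exact Localization.mk_one_eq_algebraMap _
  rw [h1, ← map_mul]
  congr 1
  change a • g.1 = _
  rw [Algebra.smul_def]

theorem frac_zero (f : 𝒮 1) : frac 𝒮 f 0 = 0 := by
  apply val_injective
  rw [val_frac, val_zero]
  change algebraMap S _ (0 : S) * _ = 0
  rw [map_zero, zero_mul]

theorem frac_sum (f : 𝒮 1) {I : Type*} (s : Finset I) (a : I → A) (g : I → 𝒮 1) :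
    frac 𝒮 f (∑ i ∈ s, a i • g i) =
      ∑ i ∈ s, fromZeroRingHom 𝒮 _ (algebraMap A (𝒮 0) (a i)) * frac 𝒮 f (g i) := by
  classical
  induction s using Finset.induction_on with
  | empty => simp [frac_zero]
  | insert i s hi ih => rw [Finset.sum_insert hi, Finset.sum_insert hi, frac_add, ih, frac_smul]

end frac

variable {k : Type u} [CommRing k] {r : ℕ}

theorem lin_eq_sum (c : Fin (r + 1) → k) : lin c = ∑ j, c j • X1 k r j := by
  apply Subtype.ext
  rw [Submodule.coe_sum]
  change ∑ i, MvPolynomial.C (c i) * MvPolynomial.X i = _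
  refine Finset.sum_congr rfl fun j _ => ?_
  rw [Submodule.coe_smul, MvPolynomial.smul_eq_C_mul]
  rfl

variable {Y : Scheme.{u}} (φ : Y ⟶ Proj (CohB1.polyGrading r k))

/-- The pullback of a linear form is the linear combination of the pullbacks of the coordinates. -/
theorem sec_pull_lin (q : Y ⟶ Spec (CommRingCat.of k))
    (hq : φ ≫ Proj.toSpecZero (CohB1.polyGrading r k) ≫
      Spec.map (CommRingCat.ofHom (algebraMap k (CohB1.polyGrading r k 0))) = q) (c : Fin (r + 1) → k) :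
    sec (pull (CohB1.polyGrading r k) φ (lin c)) ⊤ =
      ∑ j, ProjUP.toGlobal q (c j) • sec (pull (CohB1.polyGrading r k) φ (X1 k r j)) ⊤ := by
  have hcov : ⨆ i, Proj.basicOpen (CohB1.polyGrading r k) (X1 k r i).1 = ⊤ :=
    iSup_basicOpen_eq_top (CohB1.polyGrading r k) (X1 k r) MvPolynomial.adjoin_range_X
  refine res_ext _ (fun i => φ ⁻¹ᵁ Proj.basicOpen (CohB1.polyGrading r k) (X1 k r i).1)
    (fun i => le_top) ?_ (fun i => ?_)
  · rw [← Scheme.Hom.preimage_iSup, hcov]
    rfl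
  · rw [res_sec, map_sum, sec_pull_eq_resHom_smul (CohB1.polyGrading r k) φ (X1 k r i) le_rfl, lin_eq_sum,
      frac_sum, map_sum, Finset.sum_smul]
    refine Finset.sum_congr rfl fun j _ => ?_
    rw [map_mul, resHom_algebraMap, hq, mul_smul, ← sec_pull_eq_resHom_smul, res_smul, res_sec]
    rfl

section rs

variable {X : Scheme.{u}} (M : X.Modules) (U : X.Opens)

/-- The restriction of a global section to `U`, as a global section of the restricted module. -/
noncomputable def rs (v : Γ(M, ⊤)) : Γ(M.restrict U.ι, ⊤) :=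
  (M.restrictAppIso U.ι ⊤).inv (M.presheaf.map (homOfLE le_top).op v)

theorem rs_eq (v : Γ(M, ⊤)) : rs M U v = toRestrict U.ι (res M (le_top : U.ι ''ᵁ ⊤ ≤ ⊤) v) := rfl

theorem rs_add (v w : Γ(M, ⊤)) : rs M U (v + w) = rs M U v + rs M U w := by
  rw [rs_eq, rs_eq, rs_eq, map_add, map_add]

theorem rs_zero : rs M U 0 = 0 := by
  rw [rs_eq, map_zero, map_zero]

theorem appIso_hom_ores (W : (U : Scheme.{u}).Opens) (a : Γ(X, ⊤)) :
    (U.ι.appIso W).hom (ores (le_top : U.ι ''ᵁ W ≤ ⊤) a) =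
      ores (le_top : W ≤ ⊤) (U.ι.appTop a) := by
  have h1 : X.presheaf.map (homOfLE (le_top : U.ι ''ᵁ W ≤ ⊤)).op ≫ (U.ι.appIso W).hom =
      U.ι.appTop ≫ (U : Scheme.{u}).presheaf.map (homOfLE (le_top : W ≤ ⊤)).op := by
    rw [Scheme.Hom.appIso_hom, ← Category.assoc, Scheme.Hom.naturality, Category.assoc, ← Functor.map_comp]
    rfl
  exact congr($h1 a)

theorem rs_smul (a : Γ(X, ⊤)) (v : Γ(M, ⊤)) : rs M U (a • v) = (U.ι.appTop a) • rs M U v := by
  rw [rs_eq, rs_eq, res_smul, toRestrict_smul, appIso_hom_ores, ores_refl]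

theorem rs_sum {I : Type*} (s : Finset I) (a : I → Γ(X, ⊤)) (v : I → Γ(M, ⊤)) :
    rs M U (∑ i ∈ s, a i • v i) = ∑ i ∈ s, (U.ι.appTop (a i)) • rs M U (v i) := by
  classical
  induction s using Finset.induction_on with
  | empty => simp [rs_zero]
  | insert i s hi ih => rw [Finset.sum_insert hi, Finset.sum_insert hi, rs_add, ih, rs_smul]

theorem res_rs (W : (U : Scheme.{u}).Opens) (v : Γ(M, ⊤)) :
    res (M.restrict U.ι) (le_top : W ≤ ⊤) (rs M U v) = toRestrict U.ι (res M (le_top : U.ι ''ᵁ W ≤ ⊤) v) := by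
  rw [rs_eq, res_toRestrict, res_res]

/-- The generating locus of the restricted section. -/
theorem genLocus_rs (v : Coh.structureModule X ⟶ M) :
    CohB1.genLocus (M.restrict U.ι) (homOf (rs M U (sec v ⊤))) = U.ι ⁻¹ᵁ CohB1.genLocus M v := by
  have key : ∀ W : (U : Scheme.{u}).Opens, W ≤ CohB1.genLocus (M.restrict U.ι) (homOf (rs M U (sec v ⊤))) ↔
      W ≤ U.ι ⁻¹ᵁ CohB1.genLocus M v := by
    intro W
    rw [le_genLocus_iff, sec_homOf, res_rs, isGen_toRestrict_iff, res_sec, ← le_genLocus_iff]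
    constructor
    · intro h x hx
      exact h ⟨x, hx, rfl⟩
    · rintro h _ ⟨x, hx, rfl⟩
      exact h hx
  exact le_antisymm ((key _).1 le_rfl) ((key _).2 le_rfl)

/-- Proportionality of restricted sections. -/
theorem sec_rs_smul {v w : Coh.structureModule X ⟶ M} {V : X.Opens} {c : Γ(X, V)}
    (h : sec w V = c • sec v V) :
    sec (homOf (rs M U (sec w ⊤))) (U.ι ⁻¹ᵁ V) =
      (U.ι.app V c : Γ(U, U.ι ⁻¹ᵁ V)) • sec (homOf (rs M U (sec v ⊤))) (U.ι ⁻¹ᵁ V) := by
  rw [sec_homOf, sec_homOf, res_rs, res_rs, res_sec, res_sec]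
  have hle : U.ι ''ᵁ (U.ι ⁻¹ᵁ V) ≤ V := by
    rintro _ ⟨x, hx, rfl⟩
    exact hx
  have h1 : sec w (U.ι ''ᵁ (U.ι ⁻¹ᵁ V)) = ores hle c • sec v (U.ι ''ᵁ (U.ι ⁻¹ᵁ V)) := by
    rw [← res_sec w hle, h, res_smul, res_sec]
  rw [h1, toRestrict_smul]
  congr 1
  have h2 : X.presheaf.map (homOfLE hle).op ≫ (U.ι.appIso (U.ι ⁻¹ᵁ V)).hom = U.ι.app V := by
    rw [Scheme.Hom.appIso_hom, ← Category.assoc, Scheme.Hom.naturality, Category.assoc, ← Functor.map_comp]
    exact (congrArg _ (CategoryTheory.Functor.map_id _ _)).trans (Category.comp_id _)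
  exact congr($h2 c)

end rs

theorem app_baseHom {k : Type u} [CommRing k] {X Y : Scheme.{u}} (f : X ⟶ Spec (CommRingCat.of k)) (g : Y ⟶ X)
    (V : X.Opens) (b : k) :
    (g.app V).hom (CoordData.baseHom f V b) = CoordData.baseHom (g ≫ f) (g ⁻¹ᵁ V) b := by
  have h1 : X.presheaf.map (homOfLE (le_top : V ≤ ⊤)).op ≫ g.app V =
      g.appTop ≫ Y.presheaf.map (homOfLE (le_top : g ⁻¹ᵁ V ≤ ⊤)).op := Scheme.Hom.naturality _ _
  exact congr($h1 (ProjUP.toGlobal f b))

theorem ores_injective {Y : Scheme.{u}} {U V : Y.Opens} (h : V ≤ U) (h' : U = V) : Function.Injective (ores h) := by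
  subst h'
  intro a b hab
  simpa using hab

section main

variable {k : Type u} [CommRing k] {r : ℕ} {X : Scheme.{u}} (f : X ⟶ Spec (CommRingCat.of k)) (M : X.Modules)
  (U : X.Opens) (s : Fin (r + 1) → Γ(M, ⊤)) (φ : (U : Scheme.{u}) ⟶ Proj (CohB1.polyGrading r k))
  (hφ : φ ≫ Proj.toSpecZero (CohB1.polyGrading r k) ≫
      Spec.map (CommRingCat.ofHom (algebraMap k (CohB1.polyGrading r k 0))) = U.ι ≫ f)
  (τ : (Scheme.Modules.pullback φ).obj (Twist.twist (CohB1.polyGrading r k) 1) ≅ M.restrict U.ι)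
  (hτ : ∀ j, τ.hom.app ⊤ (ProjUP.pullSec φ (Twist.twist (CohB1.polyGrading r k) 1)
    (Twist.globalOf (CohB1.polyGrading r k) (X1 k r j))) = rs M U (s j))

include hφ hτ in
theorem pull_lin_comp (c : Fin (r + 1) → k) :
    pull (CohB1.polyGrading r k) φ (lin c) ≫ τ.hom =
      homOf (rs M U (∑ j, (ProjUP.toGlobal f (c j) : Γ(X, ⊤)) • s j)) := by
  apply hom_ext_sec
  rw [sec_comp, sec_pull_lin φ (U.ι ≫ f) hφ c, map_sum, sec_homOf, res_refl, rs_sum]
  refine Finset.sum_congr rfl fun j _ => ?_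
  rw [Scheme.Modules.Hom.app_smul, sec_pull_top, hτ j]
  rfl

include hφ hτ in
theorem preimage_basicOpen (c : Fin (r + 1) → k) (v : Coh.structureModule X ⟶ M)
    (hc : sec v ⊤ = ∑ j, (ProjUP.toGlobal f (c j) : Γ(X, ⊤)) • s j) :
    φ ⁻¹ᵁ Proj.basicOpen (CohB1.polyGrading r k) (lin c).1 = U.ι ⁻¹ᵁ CohB1.genLocus M v := by
  have hcov : ⨆ i, Proj.basicOpen (CohB1.polyGrading r k) (X1 k r i).1 = ⊤ :=
    iSup_basicOpen_eq_top (CohB1.polyGrading r k) (X1 k r) MvPolynomial.adjoin_range_X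
  rw [← genLocus_pull (CohB1.polyGrading r k) (X1 k r) hcov φ (lin c), ← genLocus_rs M U v, hc,
    ← pull_lin_comp f M U s φ hφ τ hτ c, Groth.Agent.Ega2.SecCalc.genLocus_comp]

include hφ hτ in
theorem app_surjective {V : X.Opens} (hVU : V ≤ U) (c : Fin (r + 1) → k) (v : Coh.structureModule X ⟶ M)
    (hv : CohB1.genLocus M v = V) (hc : sec v ⊤ = ∑ j, (ProjUP.toGlobal f (c j) : Γ(X, ⊤)) • s j)
    (C : Set Γ(X, V))
    (hgen : Subring.closure (C ∪ Set.range (CoordData.baseHom f V)) = ⊤)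
    (hC : ∀ a ∈ C, ∃ (w : Coh.structureModule X ⟶ M) (d : Fin (r + 1) → k),
      sec w ⊤ = ∑ j, (ProjUP.toGlobal f (d j) : Γ(X, ⊤)) • s j ∧ sec w V = a • sec v V) :
    Function.Surjective (φ.app (Proj.basicOpen (CohB1.polyGrading r k) (lin c).1)) := by
  subst hv
  have hpre := preimage_basicOpen f M U s φ hφ τ hτ c v hc
  -- the ring homomorphism to functions on `U ∩ V`
  have hsurj : Function.Surjective (resHom (CohB1.polyGrading r k) φ (lin c) hpre.ge) := by
    have hg : Function.Surjective (U.ι.app (CohB1.genLocus M v)) := by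
      have : IsIso (U.ι.app (CohB1.genLocus M v)) :=
        Scheme.Hom.isIso_app U.ι _ (by simpa using hVU)
      exact (ConcreteCategory.bijective_of_isIso (U.ι.app (CohB1.genLocus M v))).2
    have hle : (⊤ : Subring Γ(X, CohB1.genLocus M v)) ≤
        (resHom (CohB1.polyGrading r k) φ (lin c) hpre.ge).range.comap (U.ι.app (CohB1.genLocus M v)).hom := by
      rw [← hgen, Subring.closure_le]
      rintro a (ha | ⟨b, rfl⟩)
      · obtain ⟨w, d, hd, hw⟩ := hC a ha
        refine ⟨frac (CohB1.polyGrading r k) (lin c) (lin d), ?_⟩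
        have h1 := sec_pull_eq_resHom_smul (CohB1.polyGrading r k) φ (lin c) hpre.ge (lin d)
        have h2 := congrArg (τ.hom.app (U.ι ⁻¹ᵁ CohB1.genLocus M v)) h1
        rw [Scheme.Modules.Hom.app_smul, ← sec_comp, ← sec_comp, pull_lin_comp f M U s φ hφ τ hτ,
          pull_lin_comp f M U s φ hφ τ hτ, ← hc, ← hd, sec_rs_smul M U hw] at h2
        have h3 : IsGen (sec (homOf (rs M U (sec v ⊤))) (U.ι ⁻¹ᵁ CohB1.genLocus M v)) := by
          rw [← le_genLocus_iff, genLocus_rs]
        exact (h3.ext h2).symm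
      · refine ⟨fromZeroRingHom _ _ (algebraMap k (CohB1.polyGrading r k 0) b), ?_⟩
        rw [resHom_algebraMap, hφ]
        exact (app_baseHom f U.ι _ b).symm
    intro y
    obtain ⟨a, rfl⟩ := hg y
    exact hle (Subring.mem_top a)
  intro y
  obtain ⟨z, hz⟩ := hsurj (ores hpre.ge y)
  refine ⟨Proj.awayToSection _ _ z, ?_⟩
  exact ores_injective hpre.ge hpre hz

end main

end K428.KerProj
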