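import Groth.Agent.AdjLin.K800.KosCrit
import Groth.Agent.VarietyB.KoszulShift
import Groth.Agent.AbVar.K817.PullGr

/-!
# The `ℤ`-indexed family of an invertible module and the Koszul criterion with few sections

For an invertible module `L` with inverse `L'` and sections `s₁, …, s_r` of `L` generating `L`, the family
`… F ⊗ L' ⊗ L', F ⊗ L', F, F ⊗ L, F ⊗ L ⊗ L …` with the operators given by the `s_i`.  If
`H^j(F ⊗ L'^{⊗ (j+1)}) = 0` for `1 ≤ j < r`, with `F = M ⊗ L`, then `H⁰(M) ⊗ H⁰(L) → H⁰(M ⊗ L)` is surjective.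
-/

set_option autoImplicit false
universe u

open CategoryTheory CategoryTheory.Limits AlgebraicGeometry Opposite TopologicalSpace

namespace K428.ZTower

open K800.Tower K800.MulMap K800.SheafTower K800.KosCrit
open Groth.Agent.Ega2 Groth.Agent.Ega2.Tens Groth.Agent.Fdesc.LocGen
open Groth.Agent.VarietyB.KoszulCone Groth.Agent.VarietyB.KoszulShift Groth.Agent.Fga.HShift

variable {X : Scheme.{u}} {L L' : X.Modules}

/-- Multiplication by a section: `F ⟶ F ⊗ L`. -/
noncomputable def mulSec (F : X.Modules) (s : Coh.structureModule X ⟶ L) : F ⟶ CohB1.tensorMod F L :=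
  (runit F).inv ≫ mapT (𝟙 F) s

theorem mulSec_app (F : X.Modules) (s : Coh.structureModule X ⟶ L) {U : X.Opens} (f : Γ(F, U)) :
    (mulSec F s).app U f = Tens.tmul f (sec s U) := by
  have h1 : (mulSec F s).app U f = (mapT (𝟙 F) s).app U ((runit F).inv.app U f) := rfl
  rw [h1, runit_inv_app, mapT_tmul]
  rfl

theorem mulSec_bijective (F : X.Modules) (s : Coh.structureModule X ⟶ L) (V : X.Opens)
    (hV : V ≤ CohB1.genLocus L s) : Function.Bijective ((mulSec F s).app V) := by
  have h1 : Function.Bijective ((mapT (𝟙 F) s).app V) := by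
    refine Groth.Agent.Ega3B.TensorIso.mapT_app_bijective (F := F) s (CohB1.genLocus L s) (fun W hW => ?_) V hV
    have h2 := (isGen_sec_genLocus s) W hW
    rw [← (ofFun (X := X) (U := W)).bijective.of_comp_iff]
    convert h2 using 2 with a
    change s.app W (ofFun a) = _
    rw [app_ofFun, res_sec]
  have h2 : Function.Bijective ((runit F).inv.app V) := ConcreteCategory.bijective_of_isIso _
  exact h1.comp h2

/-- Symmetry of products of two sections of an invertible module. -/
theorem tmul_tmul_comm (hL : PicF.IsInvertible L) (F : X.Modules) {U : X.Opens} (f : Γ(F, U)) (a b : Γ(L, U)) :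
    Tens.tmul (Tens.tmul f a) b = Tens.tmul (Tens.tmul f b) a := by
  choose W e hW he using (isInvertible_iff L).1 hL
  refine res_ext _ (V := U) (fun x : U => U ⊓ W x.1) (fun x => inf_le_left)
    (fun x hx => Opens.mem_iSup.mpr ⟨⟨x, hx⟩, hx, hW x⟩) (fun x => ?_)
  have hg := (he x.1).res (inf_le_right : U ⊓ W x.1 ≤ W x.1)
  obtain ⟨r, hr⟩ := hg.exists_eq (res L (inf_le_left : U ⊓ W x.1 ≤ U) a)
  obtain ⟨r', hr'⟩ := hg.exists_eq (res L (inf_le_left : U ⊓ W x.1 ≤ U) b)
  have e1 : ∀ (p q : Γ(L, U)), res (CohB1.tensorMod (CohB1.tensorMod F L) L) (inf_le_left : U ⊓ W x.1 ≤ U)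
      (Tens.tmul (Tens.tmul f p) q) =
      Tens.tmul (Tens.tmul (res F (inf_le_left : U ⊓ W x.1 ≤ U) f) (res L (inf_le_left : U ⊓ W x.1 ≤ U) p))
        (res L (inf_le_left : U ⊓ W x.1 ≤ U) q) := by
    intro p q
    have h1 : res (CohB1.tensorMod (CohB1.tensorMod F L) L) (inf_le_left : U ⊓ W x.1 ≤ U)
        (Tens.tmul (Tens.tmul f p) q) =
        Tens.tmul (res (CohB1.tensorMod F L) (inf_le_left : U ⊓ W x.1 ≤ U) (Tens.tmul f p))
          (res L (inf_le_left : U ⊓ W x.1 ≤ U) q) := Tens.tmul_res _ _ _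
    have h2 : res (CohB1.tensorMod F L) (inf_le_left : U ⊓ W x.1 ≤ U) (Tens.tmul f p) =
        Tens.tmul (res F (inf_le_left : U ⊓ W x.1 ≤ U) f) (res L (inf_le_left : U ⊓ W x.1 ≤ U) p) :=
      Tens.tmul_res _ _ _
    exact h1.trans (congrArg (fun z => Tens.tmul z (res L (inf_le_left : U ⊓ W x.1 ≤ U) q)) h2)
  rw [e1, e1, hr, hr']
  simp only [Tens.tmul_smul, Tens.smul_tmul]
  rw [smul_comm]

variable (e : CohB1.tensorMod L' L ≅ Coh.structureModule X)

/-- The objects of the family. -/
noncomputable def zObj (F L L' : X.Modules) : ℤ → X.Modules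
  | Int.ofNat n => towObj F L n
  | Int.negSucc n => towObj F L' (n + 1)

/-- The operators of the family. -/
noncomputable def zMap (F : X.Modules) (s : Coh.structureModule X ⟶ L) :
    ∀ a : ℤ, zObj F L L' a ⟶ zObj F L L' (a + 1)
  | Int.ofNat n => mulSec (towObj F L n) s
  | Int.negSucc 0 => mulBy F (sig e s)
  | Int.negSucc (n + 1) => mulBy (towObj F L' (n + 1)) (sig e s)

theorem zMap_bijective (F : X.Modules) (s : Coh.structureModule X ⟶ L) (a : ℤ) (V : X.Opens)
    (hV : V ≤ CohB1.genLocus L s) : Function.Bijective ((zMap e F s a).app V) := by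
  rcases a with n | n
  · exact mulSec_bijective _ s V hV
  · rcases n with _ | n
    · exact mulBy_bijective _ _ (CohB1.genLocus L s) (fun _ hV => sig_bijective e s hV) V hV
    · exact mulBy_bijective _ _ (CohB1.genLocus L s) (fun _ hV => sig_bijective e s hV) V hV

theorem zMap_comm (hL : PicF.IsInvertible L) (hL' : PicF.IsInvertible L') (F : X.Modules)
    (s t : Coh.structureModule X ⟶ L) (a : ℤ) :
    zMap e F s a ≫ zMap e F t (a + 1) = zMap e F t a ≫ zMap e F s (a + 1) := by
  rcases a with n | n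
  · change mulSec (towObj F L n) s ≫ mulSec (towObj F L (n + 1)) t =
      mulSec (towObj F L n) t ≫ mulSec (towObj F L (n + 1)) s
    refine Scheme.Modules.hom_ext _ _ fun U => ConcreteCategory.hom_ext _ _ fun f => ?_
    change (mulSec (CohB1.tensorMod (towObj F L n) L) t).app U ((mulSec (towObj F L n) s).app U f) =
      (mulSec (CohB1.tensorMod (towObj F L n) L) s).app U ((mulSec (towObj F L n) t).app U f)
    rw [mulSec_app, mulSec_app, mulSec_app, mulSec_app]
    exact tmul_tmul_comm hL _ f _ _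
  · rcases n with _ | n
    · change mulBy F (sig e s) ≫ mulSec F t = mulBy F (sig e t) ≫ mulSec F s
      refine Tens.hom_ext _ _ fun U f a => ?_
      change (mulSec F t).app U ((mulBy F (sig e s)).app U (Tens.tmul f a)) =
        (mulSec F s).app U ((mulBy F (sig e t)).app U (Tens.tmul f a))
      rw [mulBy_tmul, mulBy_tmul, mulSec_app, mulSec_app, Tens.smul_tmul, Tens.smul_tmul, ← Tens.tmul_smul,
        ← Tens.tmul_smul, ← ev_smul_comm e hL]
      congr 1
      congr 1
      exact congrArg ofFun.symm (sig_app e t a).symm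
    · rcases n with _ | n
      · exact (tow F hL' (fun i : Bool => sig e (if i then s else t))).comm 0 true false
      · exact (tow F hL' (fun i : Bool => sig e (if i then s else t))).comm (n + 1) true false

/-- The family of commuting operators. -/
noncomputable def zGr (hL : PicF.IsInvertible L) (hL' : PicF.IsInvertible L') (F : X.Modules) {r : ℕ}
    (s : Fin r → (Coh.structureModule X ⟶ L)) : GrOp X.Modules r where
  obj := zObj F L L'
  x i a := zMap e F (s i) a
  comm i j a := zMap_comm e hL hL' F (s i) (s j) a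

theorem locInv (hL : PicF.IsInvertible L) (hL' : PicF.IsInvertible L') (F : X.Modules) {r : ℕ}
    (s : Fin r → (Coh.structureModule X ⟶ L)) (hs : ∀ x : X, ∃ i, x ∈ CohB1.genLocus L (s i)) :
    LocInv (zGr e hL hL' F s) := by
  intro x
  obtain ⟨i, hi⟩ := hs x
  exact ⟨CohB1.genLocus L (s i), i, hi, fun a =>
    Groth.Agent.Fga.TwistGr.isIso_restrict_of_app _ _ fun V hV => zMap_bijective e F (s i) a V hV⟩

include e in
/-- **Koszul criterion with few sections.** -/
theorem mulSurj (hL : PicF.IsInvertible L) (hL' : PicF.IsInvertible L') (M : X.Modules) {r : ℕ}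
    (s : Fin r → (Coh.structureModule X ⟶ L)) (hs : ∀ x : X, ∃ i, x ∈ CohB1.genLocus L (s i))
    (h : ∀ j, 1 ≤ j → j < r → Subsingleton (Coh.HH X (towObj (CohB1.tensorMod M L) L' (j + 1)) j)) :
    MulSurj M L := by
  refine mulSurj_of_sum e hL hL' M s fun z => ?_
  obtain ⟨t, ht⟩ := K817.PullGr.exists_sum (zGr e hL hL' (CohB1.tensorMod M L) s)
    (locInv e hL hL' _ s hs) (Int.negSucc 0) (fun j h1 h2 => by
      have e1 : Int.negSucc 0 - (j : ℤ) = Int.negSucc j := by
        rw [Int.negSucc_eq, Int.negSucc_eq]; push_cast; ring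
      rw [e1]
      exact h j h1 h2) z
  exact ⟨t, ht.symm⟩

/-! ### The terms -/

theorem towObj_add (F N : X.Modules) (m n : ℕ) : towObj F N (m + n) = towObj (towObj F N m) N n := by
  induction n with
  | zero => rfl
  | succ n ih =>
    change CohB1.tensorMod (towObj F N (m + n)) N = CohB1.tensorMod (towObj (towObj F N m) N n) N
    rw [ih]

theorem towObj_unit (N : X.Modules) (n : ℕ) : towObj (Coh.structureModule X) N n = CohB1.tensorPow N n := by
  induction n with
  | zero => rfl
  | succ n ih =>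
    change CohB1.tensorMod (towObj (Coh.structureModule X) N n) N = CohB1.tensorMod (CohB1.tensorPow N n) N
    rw [ih]

/-- Functoriality. -/
noncomputable def towIso {F G : X.Modules} (N : X.Modules) (f : F ≅ G) : ∀ n, towObj F N n ≅ towObj G N n
  | 0 => f
  | n + 1 => mapTIso (towIso N f n) (Iso.refl N)

include e in
theorem cancel (F : X.Modules) : Nonempty (CohB1.tensorMod (CohB1.tensorMod F L) L' ≅ F) :=
  ⟨Tens.assoc F L L' ≪≫ mapTIso (Iso.refl F) (Tens.swap L L' ≪≫ e) ≪≫ runit F⟩

include e in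
theorem towObj_pow (n m : ℕ) : Nonempty (towObj (CohB1.tensorPow L (n + m)) L' m ≅ CohB1.tensorPow L n) := by
  induction m with
  | zero => exact ⟨Iso.refl _⟩
  | succ m ih =>
    obtain ⟨i⟩ := ih
    obtain ⟨c⟩ := cancel e (CohB1.tensorPow L (n + m))
    have h := towObj_add (CohB1.tensorPow L (n + (m + 1))) L' 1 m
    rw [add_comm 1 m] at h
    exact ⟨eqToIso h ≪≫ towIso L' c m ≪≫ i⟩

end K428.ZTower
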