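import Groth.Agent.Dix.Cast1
import Groth.Agent.Grpsch.PicGrp
import Groth.Agent.Dix.IdealModCartier
import Groth.Agent.VarietyA.EulerLES
import Groth.Agent.PerfA.CohSerre
import Groth.Agent.S0002
import Groth.Agent.S0051
import Groth.Agent.Fdesc.StructMod
import Mathlib.LinearAlgebra.FiniteDimensional.Lemmas

/-!
# Lifting sections of powers of `O(D)` from a divisor with ample normal bundle

* `exists_lift`: `X` proper over a field, `ι : Y ⟶ X` a closed immersion, `L` an inverse of the ideal of `Y`, and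
  `ι^* L` ample; then for `m ≫ 0` all sections of `ι^* L^m` lift to sections of `L^m`.
-/

set_option autoImplicit false
set_option backward.isDefEq.respectTransparency false
universe u
open CategoryTheory CategoryTheory.Limits AlgebraicGeometry TopologicalSpace Opposite

namespace K428.NBStab

open Groth.Agent.Fdesc.LocGen Groth.Agent.Grpsch.PicGrp Groth.Agent.VarietyA.EulerLES
open Groth.Agent.Dix.Cast1 Groth.Agent.Dix.IdealModCartier

theorem isCoh_of_isInvertible {X : Scheme.{u}} {L : X.Modules} (hL : PicF.IsInvertible L) : Coh.IsCoh L := by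
  refine Groth.Agent.PerfA.CohSerre.isCoh_of_isFinLocFree fun x => ?_
  obtain ⟨U, hU, ⟨e⟩⟩ := hL x
  refine ⟨U, 1, hU, ⟨e ≪≫ ?_⟩⟩
  exact (Limits.coproductUniqueIso (fun _ : Fin 1 => Coh.structureModule (↑U : Scheme.{u}))).symm

/-- If `H¹(S.f)` is injective, global sections lift along `S.g`. -/
theorem surjective_of_injective_H1 {X : Scheme.{u}} {S : ShortComplex X.Modules} (hS : S.ShortExact)
    (h : Function.Injective (mapΓ S.f 1)) : Function.Surjective (S.g.app ⊤) := by
  intro q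
  set x := (Groth.Agent.CohqB.KerTrick.h0 S.X₃).symm q with hx
  have h1 : mapΓ S.f 1 (deltaΓ S hS 0 1 rfl x) = 0 := (exact₁ S hS 0 1 rfl _).2 ⟨x, rfl⟩
  have h2 : deltaΓ S hS 0 1 rfl x = 0 := h (h1.trans (map_zero _).symm)
  obtain ⟨y, hy⟩ := (exact₃ S hS 0 1 rfl x).1 h2
  refine ⟨Groth.Agent.CohqB.KerTrick.h0 S.X₂ y, ?_⟩
  have h3 := Groth.Agent.CohqB.KerTrick.h0_hmap S.g y
  have h4 : Groth.Agent.CohqB.KerTrick.h0 S.X₃ (mapΓ S.g 0 y) = S.g.app ⊤ (Groth.Agent.CohqB.KerTrick.h0 S.X₂ y) := h3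
  rw [← h4, hy, hx, AddEquiv.apply_symm_apply]

section

variable (k : Type u) [Field k] {X : Scheme.{u}} [X.Over (Spec (CommRingCat.of k))]
  [IsProper (X ↘ (Spec (CommRingCat.of k)))] {Y : Scheme.{u}} (ι : Y ⟶ X) [IsClosedImmersion ι]
  (L : X.Modules) (hL : ClSub.IsInverseOf L (ClSub.idealMod ι.ker))
  (hN : CohB1.IsAmple ((Scheme.Modules.pullback ι).obj L))

include k hN in
/-- Serre vanishing on `Y` for the restrictions of the powers of `L`. -/
theorem exists_vanishing (hLi : PicF.IsInvertible L) : ∃ m₁ : ℕ, ∀ m, m₁ ≤ m →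
    Subsingleton (Coh.HH Y ((Scheme.Modules.pullback ι).obj (CohB1.tensorPow L m)) 1) := by
  have hp : IsProper (ι ≫ X ↘ (Spec (CommRingCat.of k))) := inferInstance
  have hY : IsLocallyNoetherian Y := LocallyOfFiniteType.isLocallyNoetherian (ι ≫ X ↘ (Spec (CommRingCat.of k)))
  obtain ⟨n₀, h⟩ := (Groth.Agent.S0051.result k Y (ι ≫ X ↘ (Spec (CommRingCat.of k)))
    ((Scheme.Modules.pullback ι).obj L) hN.1).1 hN (Coh.structureModule Y)
    (Groth.Agent.Fdesc.StructMod.isCoh_structureModule Y)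
  refine ⟨n₀, fun m hm => ?_⟩
  have h1 := h m hm 1 one_pos
  have h2 : mk (CohB1.tensorMod (Coh.structureModule Y) (CohB1.tensorPow ((Scheme.Modules.pullback ι).obj L) m))
      (isInvertible_tensorMod isInvertible_structureModule (isInvertible_tensorPow hN.1 m)) =
      mk ((Scheme.Modules.pullback ι).obj (CohB1.tensorPow L m))
        (isInvertible_pullback ι (isInvertible_tensorPow hLi m)) := by
    rw [← mk_mul_mk isInvertible_structureModule (isInvertible_tensorPow hN.1 m), ← one_def, one_mul,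
      mk_tensorPow hN.1, ← pull_mk ι hLi, ← pull_mk ι (isInvertible_tensorPow hLi m), mk_tensorPow hLi, map_pow]
  rw [mk_eq_iff] at h2
  obtain ⟨e⟩ := h2
  exact (equivΓ e 1).symm.toEquiv.subsingleton

omit [IsClosedImmersion ι] in
include hL in
theorem nonempty_iso (hLi : PicF.IsInvertible L) (hI : PicF.IsInvertible (ClSub.idealMod ι.ker)) (m : ℕ) :
    Nonempty (CohB1.tensorMod (ClSub.idealMod ι.ker) (CohB1.tensorPow L (m + 1)) ≅ CohB1.tensorPow L m) := by
  rw [← mk_eq_iff (isInvertible_tensorMod hI (isInvertible_tensorPow hLi (m + 1))) (isInvertible_tensorPow hLi m),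
    ← mk_mul_mk hI (isInvertible_tensorPow hLi (m + 1)), mk_tensorPow hLi, mk_tensorPow hLi]
  obtain ⟨θ⟩ := hL
  have h1 : mk L hLi * mk (ClSub.idealMod ι.ker) hI = 1 := by
    rw [mk_mul_mk, mk_eq_one_iff]
    exact ⟨θ⟩
  rw [pow_succ, mul_comm, mul_assoc, h1, mul_one]

include k hL hN in
/-- **Lifting of sections.** -/
theorem exists_lift : ∃ m₀ : ℕ, ∀ m, m₀ ≤ m →
    ∀ s : Γ((Scheme.Modules.pullback ι).obj (CohB1.tensorPow L m), ⊤),
      ∃ t : Γ(CohB1.tensorPow L m, ⊤), pullTop ι t = s := by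
  have hLi := (isInvertible_of_isInverseOf hL).1
  have hI := (isInvertible_of_isInverseOf hL).2
  obtain ⟨m₁, hm₁⟩ := exists_vanishing k ι L hN hLi
  have hfin : ∀ m, Module.Finite k (Coh.HH X (CohB1.tensorPow L m) 1) := fun m =>
    Groth.Agent.S0002.result k X _ (isCoh_of_isInvertible (isInvertible_tensorPow hLi m)) 1
  have hfin' : ∀ m, Module.Finite k (Coh.HH X (CohB1.tensorMod (ClSub.idealMod ι.ker) (CohB1.tensorPow L m)) 1) :=
    fun m => Groth.Agent.S0002.result k X _
      (isCoh_of_isInvertible (isInvertible_tensorMod hI (isInvertible_tensorPow hLi m))) 1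
  let d : ℕ → ℕ := fun m => Module.finrank k (Coh.HH X (CohB1.tensorPow L m) 1)
  have hsurj : ∀ m, m₁ ≤ m → Function.Surjective (mapA k (restrictSeq ι (CohB1.tensorPow L m)).f 1) := by
    intro m hm x
    have h1 := exactA₂ k _ (restrictSeq_shortExact ι (isInvertible_tensorPow hLi m)) 1
    have h2 : Subsingleton (Coh.HH X (restrictSeq ι (CohB1.tensorPow L m)).X₃ 1) :=
      subsingleton_HH_push ι _ 1 (hm₁ m hm)
    exact (h1 x).1 (Subsingleton.elim _ _)
  have hdim : ∀ m, Module.finrank k (Coh.HH X (CohB1.tensorMod (ClSub.idealMod ι.ker)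
      (CohB1.tensorPow L (m + 1))) 1) = d m := by
    intro m
    obtain ⟨e⟩ := nonempty_iso ι L hL hLi hI m
    exact (equivA k e 1).finrank_eq
  have hanti : ∀ m, m₁ ≤ m + 1 → d (m + 1) ≤ d m := by
    intro m hm
    rw [← hdim m]
    exact LinearMap.finrank_le_finrank_of_surjective (hsurj (m + 1) hm)
  have hanti' : ∀ a b, m₁ ≤ a → a ≤ b → d b ≤ d a := by
    intro a b ha hab
    induction b, hab using Nat.le_induction with
    | base => exact le_rfl
    | succ b hb ih => exact (hanti b (by omega)).trans ih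
  -- eventually constant
  obtain ⟨m₂, hm₂, hmin⟩ : ∃ m₂, m₁ ≤ m₂ ∧ ∀ m, m₁ ≤ m → d m₂ ≤ d m := by
    obtain ⟨m₂, h1, h2⟩ := WellFounded.has_min (measure d).wf {m | m₁ ≤ m} ⟨m₁, le_refl m₁⟩
    exact ⟨m₂, h1, fun m hm => not_lt.mp (h2 m hm)⟩
  refine ⟨m₂ + 1, fun m hm s => ?_⟩
  obtain ⟨m', rfl⟩ : ∃ m', m = m' + 1 := ⟨m - 1, by omega⟩
  have heq : Module.finrank k (Coh.HH X (CohB1.tensorMod (ClSub.idealMod ι.ker)
      (CohB1.tensorPow L (m' + 1))) 1) = Module.finrank k (Coh.HH X (CohB1.tensorPow L (m' + 1)) 1) := by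
    rw [hdim]
    change d m' = d (m' + 1)
    have h1 := hanti' m₂ m' hm₂ (by omega)
    have h2 := hanti' m₂ (m' + 1) hm₂ (by omega)
    have h3 := hmin m' (by omega)
    have h4 := hmin (m' + 1) (by omega)
    omega
  have hinj : Function.Injective (mapA k (restrictSeq ι (CohB1.tensorPow L (m' + 1))).f 1) :=
    (LinearMap.injective_iff_surjective_of_finrank_eq_finrank heq).2 (hsurj _ (by omega))
  exact surjective_of_injective_H1 (restrictSeq_shortExact ι (isInvertible_tensorPow hLi (m' + 1))) hinj s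

end

end K428.NBStab
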