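import Groth.Agent.S2100
import Groth.Agent.FlatA.DimFin
import Mathlib.RingTheory.IntegralClosure.GoingDown
import Mathlib.RingTheory.Polynomial.UniqueFactorization
import Mathlib.RingTheory.KrullDimension.NonZeroDivisors

/-!
# Noether normalization adapted to a chain of primes
-/

set_option autoImplicit false

universe u

namespace K428.NoethChain

open MvPolynomial

section Ker

variable {k : Type u} [Field k] {σ : Type*}

/-- The ideal generated by some of the variables is the kernel of the map killing them. -/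
theorem ker_kill (S : Set σ) [DecidablePred (· ∈ S)] :
    RingHom.ker (aeval (fun i : σ => if h : i ∈ S then (0 : MvPolynomial (Sᶜ : Set σ) k) else X ⟨i, h⟩) :
      MvPolynomial σ k →ₐ[k] MvPolynomial (Sᶜ : Set σ) k) = Ideal.span (X '' S) := by
  set π : MvPolynomial σ k →ₐ[k] MvPolynomial (Sᶜ : Set σ) k :=
    aeval (fun i : σ => if h : i ∈ S then (0 : MvPolynomial (Sᶜ : Set σ) k) else X ⟨i, h⟩) with hπ
  have key : ∀ P : MvPolynomial σ k, P - rename Subtype.val (π P) ∈ Ideal.span (X '' S) := by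
    intro P
    rw [← Ideal.Quotient.eq]
    have : Ideal.Quotient.mkₐ k (Ideal.span (X '' S : Set (MvPolynomial σ k))) =
        (Ideal.Quotient.mkₐ k _).comp ((rename Subtype.val).comp π) := by
      apply MvPolynomial.algHom_ext
      intro i
      by_cases h : i ∈ S
      · simp only [Ideal.Quotient.mkₐ_eq_mk, AlgHom.comp_apply, hπ, aeval_X, h, dif_pos, map_zero]
        rw [Ideal.Quotient.eq_zero_iff_mem]
        exact Ideal.subset_span ⟨i, h, rfl⟩
      · simp [hπ, h]
    exact DFunLike.congr_fun this P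
  refine le_antisymm (fun P hP => ?_) ?_
  · have h1 := key P
    rw [RingHom.mem_ker] at hP
    rwa [hP, map_zero, sub_zero] at h1
  · rw [Ideal.span_le]
    rintro _ ⟨i, hi, rfl⟩
    change π (X i) = 0
    simp [hπ, hi]

theorem kill_rename (S : Set σ) [DecidablePred (· ∈ S)] (P : MvPolynomial (Sᶜ : Set σ) k) :
    aeval (fun i : σ => if h : i ∈ S then (0 : MvPolynomial (Sᶜ : Set σ) k) else X ⟨i, h⟩)
      (rename Subtype.val P) = P := by
  have : (aeval (fun i : σ => if h : i ∈ S then (0 : MvPolynomial (Sᶜ : Set σ) k) else X ⟨i, h⟩)).comp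
      (rename Subtype.val) = AlgHom.id k (MvPolynomial (Sᶜ : Set σ) k) := by
    apply MvPolynomial.algHom_ext
    rintro ⟨i, hi⟩
    have hi' : i ∉ S := hi
    simp [hi']
  exact DFunLike.congr_fun this P

end Ker

variable {k : Type u} [Field k]

/-- the ideal `(X_0, …, X_{h-1})`. -/
noncomputable abbrev PI (k : Type u) [Field k] (d h : ℕ) : Ideal (MvPolynomial (Fin d) k) :=
  Ideal.span (X '' {l : Fin d | (l : ℕ) < h})

/-- the map killing the first `h` variables. -/
noncomputable abbrev kill (k : Type u) [Field k] (d h : ℕ) :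
    MvPolynomial (Fin d) k →ₐ[k] MvPolynomial ({l : Fin d | (l : ℕ) < h}ᶜ : Set (Fin d)) k :=
  aeval (fun i : Fin d => if h : i ∈ {l : Fin d | (l : ℕ) < h} then 0 else X ⟨i, h⟩)

theorem ker_kill' (d h : ℕ) : RingHom.ker (kill k d h) = PI k d h := ker_kill _

theorem kill_surjective (d h : ℕ) : Function.Surjective (kill k d h) := fun P => ⟨_, kill_rename _ P⟩

instance isPrime_PI (d h : ℕ) : (PI k d h).IsPrime := by
  rw [← ker_kill']
  exact RingHom.ker_isPrime _

theorem card_compl (d h : ℕ) (hh : h ≤ d) : Nat.card ({l : Fin d | (l : ℕ) < h}ᶜ : Set (Fin d)) = d - h := by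
  rw [Nat.card_eq_fintype_card, Fintype.card_compl_set, Fintype.card_fin]
  congr 1
  rw [Fintype.card_subtype]
  have : (Finset.univ.filter fun x : Fin d => x ∈ {l : Fin d | (l : ℕ) < h}) =
      (Finset.univ : Finset (Fin h)).map (Fin.castLEEmb hh) := by
    ext x
    simp only [Set.mem_ofPred_eq, Finset.mem_filter, Finset.mem_univ, true_and, Finset.mem_map,
      Fin.castLEEmb_apply]
    constructor
    · intro hx
      exact ⟨⟨x, hx⟩, rfl⟩
    · rintro ⟨a, rfl⟩
      simp
  rw [this, Finset.card_map, Finset.card_univ, Fintype.card_fin]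

theorem ringKrullDim_PI (d h : ℕ) (hh : h ≤ d) :
    ringKrullDim (MvPolynomial (Fin d) k ⧸ PI k d h) = ((d - h : ℕ) : WithBot ℕ∞) := by
  have e : (MvPolynomial (Fin d) k ⧸ RingHom.ker (kill k d h)) ≃+*
      MvPolynomial ({l : Fin d | (l : ℕ) < h}ᶜ : Set (Fin d)) k :=
    RingHom.quotientKerEquivOfSurjective (kill_surjective d h)
  have e' : (MvPolynomial (Fin d) k ⧸ PI k d h) ≃+*
      MvPolynomial ({l : Fin d | (l : ℕ) < h}ᶜ : Set (Fin d)) k :=
    (Ideal.quotEquivOfEq (ker_kill' d h).symm).trans e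
  rw [ringKrullDim_eq_of_ringEquiv e', MvPolynomial.ringKrullDim_of_isNoetherianRing,
    ringKrullDim_eq_zero_of_field, zero_add, card_compl d h hh]

/-- A prime strictly above another has a quotient of smaller dimension. -/
theorem eq_of_le_of_dim {R : Type*} [CommRing R] {P Q : Ideal R} [P.IsPrime] (hPQ : P ≤ Q) (n : ℕ)
    (hP : ringKrullDim (R ⧸ P) = (n : WithBot ℕ∞)) (hQ : ringKrullDim (R ⧸ Q) = (n : WithBot ℕ∞)) : P = Q := by
  by_contra hne
  obtain ⟨x, hxQ, hxP⟩ := SetLike.exists_of_lt (lt_of_le_of_ne hPQ hne)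
  have hx : (Ideal.Quotient.mk P x) ∈ nonZeroDivisors (R ⧸ P) := by
    apply mem_nonZeroDivisors_of_ne_zero
    rwa [Ne, Ideal.Quotient.eq_zero_iff_mem]
  have h1 := ringKrullDim_quotient_succ_le_of_nonZeroDivisor hx
  have h2 : ringKrullDim (R ⧸ Q) ≤ ringKrullDim ((R ⧸ P) ⧸ Ideal.span {Ideal.Quotient.mk P x}) := by
    refine ringKrullDim_le_of_surjective (Ideal.Quotient.lift _ (Ideal.Quotient.factor hPQ) ?_) ?_
    · intro a ha
      have : Ideal.span {Ideal.Quotient.mk P x} ≤ RingHom.ker (Ideal.Quotient.factor hPQ) := by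
        rw [Ideal.span_le, Set.singleton_subset_iff]
        change Ideal.Quotient.factor hPQ (Ideal.Quotient.mk P x) = 0
        rw [Ideal.Quotient.factor_mk, Ideal.Quotient.eq_zero_iff_mem]
        exact hxQ
      exact this ha
    · intro y
      obtain ⟨y, rfl⟩ := Ideal.Quotient.mk_surjective y
      exact ⟨Ideal.Quotient.mk _ (Ideal.Quotient.mk _ y), rfl⟩
  rw [hP] at h1
  rw [hQ] at h2
  have h3 : ((n : WithBot ℕ∞)) + 1 ≤ n := (add_le_add_left h2 1).trans h1
  have h4 : ((n + 1 : ℕ) : WithBot ℕ∞) ≤ (n : ℕ) := by exact_mod_cast h3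
  have h5 : n + 1 ≤ n := by exact_mod_cast h4
  omega


section Aux

open Groth.Agent.S2100

/-- Refinement of `S2100.exists_aux` which remembers the variables already sent into the prime, listed by `y`. -/
theorem exists_aux {A : Type u} [CommRing A] [Algebra k A] (q : Ideal A) [q.IsPrime]
    (s : ℕ) : ∀ (t : ℕ) (φ : MvPolynomial (Fin s ⊕ Fin t) k →ₐ[k] A) (_ : φ.toRingHom.IsIntegral) (y : ℕ → A)
    (_ : ∀ j : Fin t, φ (X (Sum.inr j)) = y (t - 1 - j)) (_ : ∀ j < t, y j ∈ q),
    ∃ (s' t' : ℕ) (φ' : MvPolynomial (Fin s' ⊕ Fin t') k →ₐ[k] A) (y' : ℕ → A), s' + t' = s + t ∧ t ≤ t' ∧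
      φ'.toRingHom.IsIntegral ∧ (∀ j : Fin t', φ' (X (Sum.inr j)) = y' (t' - 1 - j)) ∧ (∀ j < t, y' j = y j) ∧
      (∀ j < t', y' j ∈ q) ∧ ∀ g : MvPolynomial (Fin s') k, φ' (rename Sum.inl g) ∈ q → g = 0 := by
  induction s with
  | zero =>
    intro t φ hφ y hy hq
    refine ⟨0, t, φ, y, rfl, le_rfl, hφ, hy, fun _ _ => rfl, hq, ?_⟩
    intro g hg
    by_contra hne
    have h1 : IsUnit g := by
      obtain ⟨a, rfl⟩ := MvPolynomial.C_surjective (Fin 0) g
      have : a ≠ 0 := by
        rintro rfl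
        simp at hne
      exact this.isUnit.map C
    have h2 : IsUnit (φ (rename Sum.inl g)) := (h1.map (rename Sum.inl)).map φ
    exact Ideal.IsPrime.ne_top inferInstance (Ideal.eq_top_of_isUnit_mem q hg h2)
  | succ s ih =>
    intro t φ hφ y hy hq
    by_cases h : ∀ g : MvPolynomial (Fin (s + 1)) k, φ (rename Sum.inl g) ∈ q → g = 0
    · exact ⟨s + 1, t, φ, y, rfl, le_rfl, hφ, hy, fun _ _ => rfl, hq, h⟩
    · push Not at h
      obtain ⟨f, hf, hf0⟩ := h
      have hfu : ¬ IsUnit f := by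
        intro h1
        have h2 : IsUnit (φ (rename Sum.inl f)) := (h1.map (rename Sum.inl)).map φ
        exact Ideal.IsPrime.ne_top inferInstance (Ideal.eq_top_of_isUnit_mem q hf h2)
      obtain ⟨α, hα, h0, hj⟩ := step s t f hf0 hfu
      obtain ⟨s', t', φ', y', h1, h2, h3, h4, h5, h6, h7⟩ := ih (t + 1) (φ.comp α) (hα.trans _ _ hφ)
        (Function.update y t (φ (rename Sum.inl f))) (by
        intro j
        refine Fin.cases ?_ ?_ j
        · rw [AlgHom.comp_apply, h0]
          simp
        · intro j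
          rw [AlgHom.comp_apply, hj, hy, Function.update_of_ne (by simp; omega)]
          congr 1
          simp
          omega) (by
        intro j hj
        by_cases hjt : j = t
        · subst hjt
          rw [Function.update_self]
          exact hf
        · rw [Function.update_of_ne hjt]
          exact hq j (by omega))
      refine ⟨s', t', φ', y', by omega, by omega, h3, h4, fun j hj => ?_, h6, h7⟩
      rw [h5 j (by omega), Function.update_of_ne (by omega)]

/-- The dimension of `A / q` in the situation of `exists_aux`. -/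
theorem dim_quotient {A : Type u} [CommRing A] [Algebra k A] (q : Ideal A) [q.IsPrime] (s t : ℕ)
    (φ : MvPolynomial (Fin s ⊕ Fin t) k →ₐ[k] A) (hint : φ.toRingHom.IsIntegral)
    (hq : ∀ j, φ (X (Sum.inr j)) ∈ q) (hinj : ∀ g : MvPolynomial (Fin s) k, φ (rename Sum.inl g) ∈ q → g = 0) :
    ringKrullDim (A ⧸ q) = (s : WithBot ℕ∞) := by
  let π : MvPolynomial (Fin s ⊕ Fin t) k →ₐ[k] MvPolynomial (Fin s) k :=
    aeval (Sum.elim (X : Fin s → MvPolynomial (Fin s) k) 0)
  let ψ : MvPolynomial (Fin s) k →ₐ[k] A ⧸ q :=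
    (Ideal.Quotient.mkₐ k q).comp (φ.comp (rename Sum.inl))
  have hψinj : Function.Injective ψ := by
    rw [injective_iff_map_eq_zero]
    intro g hg
    apply hinj
    rwa [← Ideal.Quotient.eq_zero_iff_mem]
  have hcomp : (Ideal.Quotient.mkₐ k q).comp φ = ψ.comp π := by
    apply MvPolynomial.algHom_ext
    rintro (i | j)
    · simp [ψ, π]
    · simp only [Ideal.Quotient.mkₐ_eq_mk, AlgHom.comp_apply, π, aeval_X, Sum.elim_inr, Pi.zero_apply,
        map_zero]
      rw [Ideal.Quotient.eq_zero_iff_mem]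
      exact hq j
  have hψint : ψ.toRingHom.IsIntegral := by
    apply RingHom.IsIntegral.tower_top π.toRingHom
    have h1 : ψ.toRingHom.comp π.toRingHom = (Ideal.Quotient.mk q).comp φ.toRingHom := by
      ext x
      · exact (DFunLike.congr_fun hcomp (C x)).symm
      · exact (DFunLike.congr_fun hcomp (X x)).symm
    rw [h1]
    exact hint.trans _ _ (RingHom.isIntegral_of_surjective _ Ideal.Quotient.mk_surjective)
  letI : Algebra (MvPolynomial (Fin s) k) (A ⧸ q) := ψ.toRingHom.toAlgebra
  haveI : Algebra.IsIntegral (MvPolynomial (Fin s) k) (A ⧸ q) := ⟨hψint⟩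
  rw [Groth.Agent.FlatA.DimFin.ringKrullDim_eq_of_isIntegral_of_injective (MvPolynomial (Fin s) k) (A ⧸ q) hψinj,
    Groth.Agent.FlatA.DimFin.ringKrullDim_mvPolynomial_fin]

end Aux

end K428.NoethChain
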